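import Cfsg.Agent.CharBasics.Central
import Cfsg.Agent.BrauerInd.FSInd

/-!
Characters of representations on arbitrary finite-dimensional spaces.
-/

set_option autoImplicit false

namespace CfsgLib.CharBasics

open Cfsg

variable {G : Type*} [Group G] [Finite G] {V : Type*} [AddCommGroup V] [Module ℂ V] [FiniteDimensional ℂ V]

omit [Finite G] in
theorem charDegree_rep (ρ : Representation ℂ G V) : charDegree ρ.character = Module.finrank ℂ V := by
  rw [charDegree, Representation.char_one, Complex.natCast_re, Nat.floor_natCast]

/-- An irreducible representation gives an irreducible character. -/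
theorem exists_irr (ρ : Representation ℂ G V) [ρ.IsIrreducible] :
    ∃ χ : IrrCharacter G, (χ : G → ℂ) = ρ.character := by
  haveI := Fintype.ofFinite G
  exact ⟨⟨_, CfsgLib.BrauerInd.isIrr_rep ρ⟩, rfl⟩

theorem rep_eq_id (ρ : Representation ℂ G V) (g : G) (h : ρ.character g = (Module.finrank ℂ V : ℂ)) :
    ρ g = LinearMap.id := by
  set e := (Module.finBasis ℂ V).equivFun
  have h1 := eq_id_of_character_eq (repConj e ρ) g (by rw [repConj_character, h, Representation.char_one])
  refine LinearMap.ext fun v => e.injective ?_
  have h2 := LinearMap.congr_fun h1 (e v)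
  simpa [repConj_apply, LinearEquiv.conj_apply] using h2

end CfsgLib.CharBasics
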