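import Cfsg.Agent.CharBasics.Basic
import Cfsg.Agent.Blocks.Local

/-!
Character values at `p`-elements are congruent to the degree at a modular maximal ideal.
-/

set_option autoImplicit false

namespace CfsgLib.CharBasics

open Cfsg CfsgLib.Blocks

variable {G : Type*} [Group G] {p : ℕ} {M : Ideal AlgInt}

theorem root_sub_one_mem (hM : IsPModular p M) {lam : ℂ} {k : ℕ} (h : lam ^ p ^ k = 1) :
    MemLocalIdeal M (lam - 1) := by
  have hint : IsIntegral ℤ lam :=
    IsIntegral.of_pow (Nat.pow_pos hM.1.pos) (by rw [h]; exact isIntegral_one)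
  let a : AlgInt := ⟨lam, hint⟩
  have ha : a ^ p ^ k = 1 := Subtype.ext (by simpa [a] using h)
  obtain ⟨r, hr⟩ := (Commute.all (a - 1) 1).exists_add_pow_prime_pow_eq hM.1 k
  rw [sub_add_cancel, ha, one_pow] at hr
  have hmem : (a - 1) ^ p ^ k ∈ M := by
    have e : (a - 1) ^ p ^ k = (p : AlgInt) * (-((a - 1) * 1 * r)) := by linear_combination -hr
    rw [e]; exact M.mul_mem_right _ hM.2.2
  exact (memLocalIdeal_coe_iff hM (a - 1)).2 ((isPrime_of_modular hM).mem_of_pow_mem _ hmem) |>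
    fun h' => by simpa [a] using h'

theorem apply_sub_degree_mem [Finite G] (hM : IsPModular p M) {χ : G → ℂ} (h : IsCharacter G χ)
    {g : G} {k : ℕ} (hg : g ^ p ^ k = 1) : MemLocalIdeal M (χ g - χ 1) := by
  obtain ⟨lam, hl, hv⟩ := exists_eigen h g
  have e : χ g - χ 1 = ∑ i, (lam i - 1) := by
    rw [Finset.sum_sub_distrib, ← pow_zero g, hv 0, show χ g = ∑ i, lam i by simpa using hv 1]
    simp
  rw [e]
  refine memLocalIdeal_sum hM _ fun i _ => root_sub_one_mem hM (k := k) ?_
  obtain ⟨d, hd⟩ := orderOf_dvd_of_pow_eq_one hg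
  rw [hd, pow_mul, hl i, one_pow]

theorem apply_ne_zero_of_not_dvd [Finite G] (hM : IsPModular p M) {χ : G → ℂ} (h : IsCharacter G χ)
    {g : G} {k : ℕ} (hg : g ^ p ^ k = 1) (hd : ¬ p ∣ charDegree χ) : χ g ≠ 0 := by
  intro h0
  have := memLocalIdeal_neg (apply_sub_degree_mem hM h hg)
  rw [h0, zero_sub, neg_neg, apply_one h, memLocalIdeal_natCast_iff hM] at this
  exact hd this

end CfsgLib.CharBasics
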