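import Cfsg.Agent.CharBasics.Corr
import Cfsg.Agent.S4811

/-!
Linear characters inject, up to the index of the inertia group, into characters over an extendible one.
-/

set_option autoImplicit false

namespace CfsgLib.CharBasics

open Cfsg CfsgLib.Clifford
open scoped commutatorElement ComplexConjugate

variable {G : Type*} [Group G] [Fintype G]

/-- A degree one character as a homomorphism. -/
noncomputable def linHomOf (χ : IrrCharacter G) (h : charDegree (χ : G → ℂ) = 1) : G →* ℂ where
  toFun := (χ : G → ℂ)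
  map_one' := by rw [apply_one (isCharacter_of_irr χ.2), h, Nat.cast_one]
  map_mul' := Cfsg.Agent.S4811.apply_mul_of_degree_one (isCharacter_of_irr χ.2) h

theorem linHomOf_apply (χ : IrrCharacter G) (h : charDegree (χ : G → ℂ) = 1) (g : G) :
    linHomOf χ h g = (χ : G → ℂ) g := rfl

theorem card_linear_le (N : Subgroup G) [N.Normal] [Fintype N]
    (hmin : ∀ M : Subgroup G, M.Normal → M ≤ N → M = ⊥ ∨ M = N) (hna : ¬ IsMulCommutative N)
    (φ : IrrCharacter N) (I : Subgroup G) [Fintype I]
    (hI : ∀ g : G, g ∈ I ↔ ∀ n n' : N, (n' : G) = g * (n : G) * g⁻¹ → (φ : N → ℂ) n' = (φ : N → ℂ) n)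
    (hNI : N ≤ I) (ψ : IrrCharacter I) (hext : ∀ n : N, (ψ : I → ℂ) (Subgroup.inclusion hNI n) = (φ : N → ℂ) n)
    (P Q : (G → ℂ) → Prop)
    (hPQ : ∀ χ : IrrCharacter G, charDegree (χ : G → ℂ) = 1 → P χ →
      IsIrrCharacter G (indFun I fun i : I => (χ : G → ℂ) i * (ψ : I → ℂ) i) →
        Q (indFun I fun i : I => (χ : G → ℂ) i * (ψ : I → ℂ) i)) :
    Nat.card {χ : IrrCharacter G // charDegree (χ : G → ℂ) = 1 ∧ P χ} ≤ I.index *
      Nat.card {χ : IrrCharacter G // charDegree (χ : G → ℂ) = charDegree (φ : N → ℂ) * I.index ∧ Q χ} := by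
  classical
  have hIin : I = inertia (φ : N → ℂ) := by
    ext g
    rw [hI g, mem_inertia]
    constructor
    · intro h; funext n; exact h n _ rfl
    · intro h n n' hn
      rw [← congrFun h n]
      exact congrArg _ (Subtype.ext hn)
  have hperf : ⁅N, N⁆ = N := by
    rcases hmin ⁅N, N⁆ inferInstance (Subgroup.commutator_le_right _ _) with h | h
    · exact absurd ⟨⟨fun a b => Subtype.ext (commutatorElement_eq_one_iff_mul_comm.1
        (Subgroup.mem_bot.1 (h ▸ Subgroup.commutator_mem_commutator a.2 b.2)))⟩⟩ hna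
    · exact h
  have htriv : ∀ χ : IrrCharacter G, charDegree (χ : G → ℂ) = 1 → ∀ n ∈ N, (χ : G → ℂ) n = 1 := by
    intro χ h n hn
    have hle : N ≤ charKer _ (isCharacter_of_irr χ.2) := by
      rw [← hperf, Subgroup.commutator_le]
      exact fun a _ b _ => Cfsg.Agent.S4811.apply_commutator_eq (isCharacter_of_irr χ.2) h a b
    rw [show (χ : G → ℂ) n = (χ : G → ℂ) 1 from hle hn, apply_one (isCharacter_of_irr χ.2), h, Nat.cast_one]
  have hψc := isCharacter_of_irr ψ.2
  -- the map
  have hθirr : ∀ (χ : IrrCharacter G), charDegree (χ : G → ℂ) = 1 →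
      IsIrrCharacter I (fun i : I => (χ : G → ℂ) i * (ψ : I → ℂ) i) := fun χ h =>
    isIrrCharacter_linear_mul ψ.2 ((linHomOf χ h).comp I.subtype)
  have hθres : ∀ (χ : IrrCharacter G), charDegree (χ : G → ℂ) = 1 →
      (fun n : N => (χ : G → ℂ) n * (ψ : I → ℂ) ⟨(n : G), hNI n.2⟩) = (φ : N → ℂ) := fun χ h => funext fun n => by
    rw [htriv χ h n n.2, one_mul]; exact hext n
  have hover : ∀ (χ : IrrCharacter G), charDegree (χ : G → ℂ) = 1 →
      classInner (fun n : N => (fun i : I => (χ : G → ℂ) i * (ψ : I → ℂ) i) ⟨(n : G), hNI n.2⟩) (φ : N → ℂ) ≠ 0 := by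
    intro χ h
    rw [show (fun n : N => (fun i : I => (χ : G → ℂ) i * (ψ : I → ℂ) i) ⟨(n : G), hNI n.2⟩) = (φ : N → ℂ) from hθres χ h,
      classInner_self φ.2]
    exact one_ne_zero
  have hirr := fun (χ : IrrCharacter G) (h : charDegree (χ : G → ℂ) = 1) =>
    isIrr_indFun_of_inertia φ.2 I hIin hNI (hθirr χ h) (hover χ h)
  have hdegψ : charDegree (ψ : I → ℂ) = charDegree (φ : N → ℂ) := by
    simp only [charDegree]
    rw [← hext 1, map_one]
  let F : {χ : IrrCharacter G // charDegree (χ : G → ℂ) = 1 ∧ P χ} →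
      {χ : IrrCharacter G // charDegree (χ : G → ℂ) = charDegree (φ : N → ℂ) * I.index ∧ Q χ} :=
    fun χ => ⟨⟨_, (hirr χ.1 χ.2.1).1⟩, by
      show charDegree (indFun I fun i : I => (χ.1 : G → ℂ) i * (ψ : I → ℂ) i) = _
      rw [charDegree_indFun I (isCharacter_of_irr (hθirr χ.1 χ.2.1)), mul_comm, ← hdegψ]
      congr 1
      simp only [charDegree, Subgroup.coe_one]
      rw [apply_one (isCharacter_of_irr χ.1.2), χ.2.1, Nat.cast_one, one_mul],
      hPQ χ.1 χ.2.1 χ.2.2 (hirr χ.1 χ.2.1).1⟩
  haveI : Fintype (IrrCharacter G) := Fintype.ofFinite _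
  rw [mul_comm]
  have hfib : ∀ η, Nat.card {x // F x = η} ≤ I.index := by
    intro η
    rcases isEmpty_or_nonempty {x // F x = η} with h | ⟨⟨x₀, hx₀⟩⟩
    · rw [Nat.card_of_isEmpty]; exact Nat.zero_le _
    -- equal on `I`
    have heq : ∀ x : {x // F x = η}, ∀ i : I, (x.1.1 : G → ℂ) i = (x₀.1 : G → ℂ) i := by
      intro x
      have hI' := (hirr x₀.1 x₀.2.1).2 _ (hθirr x.1.1 x.1.2.1) (hover x.1.1 x.1.2.1) (by
        have := congrArg (fun z => ((z.1 : IrrCharacter G) : G → ℂ)) (x.2.trans hx₀.symm)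
        exact this)
      -- Gallagher
      haveI : Fintype (N.subgroupOf I) := Fintype.ofFinite _
      let e : N.subgroupOf I ≃* N := Subgroup.subgroupOfEquivOfLe hNI
      have hg := gallagher_bijOn (G := I) (N := N.subgroupOf I) (φ := fun _ => (1 : ℂ))
        (θ := fun m => (φ : N → ℂ) (e m)) isIrrCharacter_one (fun g => rfl)
        (by
          rw [show ((fun _ : N.subgroupOf I => (1 : ℂ)) * fun m => (φ : N → ℂ) (e m)) = fun m => (φ : N → ℂ) (e m) from
            funext fun m => one_mul _]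
          exact Clifford.isIrrCharacter_comp φ.2 e.toMonoidHom e.surjective)
        hψc (fun m => by rw [← hext]; exact congrArg _ (Subtype.ext rfl))
      have hmemS : ∀ (χ : IrrCharacter G), charDegree (χ : G → ℂ) = 1 →
          (fun i : I => (χ : G → ℂ) i) ∈ {β : I → ℂ | IsIrrCharacter I β ∧
            classInner (indFun (N.subgroupOf I) fun _ => 1) β ≠ 0} := by
        intro χ h
        have hb : IsIrrCharacter I (fun i : I => (χ : G → ℂ) i) := by
          have := isIrrCharacter_linear_mul (isIrrCharacter_one (G := I)) ((linHomOf χ h).comp I.subtype)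
          simpa [linHomOf_apply] using this
        exact ⟨hb, (mem_over_one_iff hb).2 fun n hn => by
          rw [htriv χ h _ (Subgroup.mem_subgroupOf.1 hn), Subgroup.coe_one, htriv χ h 1 (one_mem _)]⟩
      intro i
      exact congrFun (hg.injOn (hmemS x.1.1 x.1.2.1) (hmemS x₀.1 x₀.2.1) hI') i
    -- constituents of the induced character
    set μ : I → ℂ := fun i => (x₀.1 : G → ℂ) i with hμ
    have hμc : IsCharacter I μ := CfsgLib.CharBasics.isCharacter_restrict (isCharacter_of_irr x₀.1.2) I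
    have hμn : classInner μ μ = 1 := by
      have hb := isIrrCharacter_linear_mul (isIrrCharacter_one (G := I)) ((linHomOf x₀.1 x₀.2.1).comp I.subtype)
      refine classInner_self ?_
      simpa [linHomOf_apply] using hb
    choose a ha using fun χ : IrrCharacter G => classInner_character_nat (isCharacter_indFun I hμc) χ
    have h1 := congrFun (classFun_expand (isClassFunction (isCharacter_indFun I hμc))) 1
    rw [indFun_apply_one, hμ] at h1
    simp only [Subgroup.coe_one, htriv x₀.1 x₀.2.1 1 (one_mem _), mul_one, Finset.sum_apply, Pi.smul_apply,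
      smul_eq_mul] at h1
    rw [Finset.sum_congr rfl (fun χ _ => by rw [ha χ, apply_one (isCharacter_of_irr χ.2), ← Nat.cast_mul] :
      ∀ χ ∈ (Finset.univ : Finset (IrrCharacter G)), _ = ((a χ * charDegree (χ : G → ℂ) : ℕ) : ℂ)),
      ← Nat.cast_sum, Nat.cast_inj] at h1
    refine le_trans ?_ h1.ge
    rw [Nat.card_eq_fintype_card, ← Finset.card_univ, Finset.card_eq_sum_ones]
    refine le_trans (le_of_eq ?_) (Finset.sum_le_sum_of_subset (Finset.subset_univ
      (Finset.univ.image fun x : {x // F x = η} => (x.1.1 : IrrCharacter G))))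
    rw [Finset.sum_image (fun x _ y _ h => Subtype.ext (Subtype.ext h))]
    refine Finset.sum_congr rfl fun x _ => ?_
    have hax : a x.1.1 = 1 := by
      have h2 := ha x.1.1
      rw [classInner_indFun I μ (isClassFunction (isCharacter_of_irr x.1.1.2)),
        show (fun i : I => (x.1.1 : G → ℂ) i) = μ from funext (heq x), hμn] at h2
      exact_mod_cast h2.symm
    rw [hax, x.1.2.1]
  calc Nat.card {χ : IrrCharacter G // charDegree (χ : G → ℂ) = 1 ∧ P χ}
      = ∑ η, Nat.card {x // F x = η} := by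
        rw [← Nat.card_congr (Equiv.sigmaFiberEquiv F), Nat.card_sigma]
    _ ≤ ∑ _η : {χ : IrrCharacter G // charDegree (χ : G → ℂ) = charDegree (φ : N → ℂ) * I.index ∧ Q χ}, I.index :=
        Finset.sum_le_sum fun η _ => hfib η
    _ = _ := by rw [Finset.sum_const, Finset.card_univ, smul_eq_mul, Nat.card_eq_fintype_card]

end CfsgLib.CharBasics
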