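import Cfsg.Agent.CharBasics.Extra
import Cfsg.Agent.Clifford.Gallagher

/-!
Clifford correspondence (induction half) and linear multiples of induced characters.
-/

set_option autoImplicit false

namespace CfsgLib.CharBasics

open Cfsg CfsgLib.Clifford
open scoped ComplexConjugate

variable {G : Type*} [Group G] [Fintype G]

/-- A character of the inertia group over `φ` that occurs in `χ` is the Clifford correspondent of `χ`. -/
theorem correspondent_unique {N : Subgroup G} [N.Normal] [Fintype N] {φ : N → ℂ} (hφ : IsIrrCharacter N φ)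
    (T : Subgroup G) [Fintype T] (hT : T = inertia φ) (hNT : N ≤ T) {θ : T → ℂ} (hθ : IsIrrCharacter T θ)
    (hover : classInner (fun n : N => θ ⟨(n : G), hNT n.2⟩) φ ≠ 0) {χ : G → ℂ} (hχ : IsIrrCharacter G χ)
    (hne : classInner (fun t : T => χ t) θ ≠ 0) :
    indFun T θ = χ ∧
      ∀ θ' : T → ℂ, IsIrrCharacter T θ' → classInner (fun n : N => θ' ⟨(n : G), hNT n.2⟩) φ ≠ 0 →
        classInner (fun t : T => χ t) θ' ≠ 0 → θ' = θ := by
  classical
  have hχc := isCharacter_of_irr hχ
  have hres : IsCharacter T (fun t : T => χ t) := CfsgLib.CharBasics.isCharacter_restrict hχc T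
  have hcomp : ∀ {η : T → ℂ}, IsCharacter T η → IsCharacter N (fun n : N => η ⟨(n : G), hNT n.2⟩) :=
    fun h => CfsgLib.CharBasics.isCharacter_comp h (Subgroup.inclusion hNT)
  obtain ⟨e, he⟩ := classInner_characters_nat (CfsgLib.CharBasics.isCharacter_restrict hχc N) (isCharacter_of_irr hφ)
  obtain ⟨R, hR, hsum⟩ := exists_eq_add_of_constituent hres hθ hne
  obtain ⟨m, hm⟩ := classInner_characters_nat (hcomp (isCharacter_of_irr hθ)) (isCharacter_of_irr hφ)
  obtain ⟨r, hr⟩ := classInner_characters_nat (hcomp hR) (isCharacter_of_irr hφ)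
  have hem : (e : ℂ) = m + r := by
    rw [← he, show (fun n : N => χ n) = (fun n : N => θ ⟨(n : G), hNT n.2⟩) + fun n : N => R ⟨(n : G), hNT n.2⟩ from
      funext fun n => congrFun hsum ⟨(n : G), hNT n.2⟩]
    rw [classInner_add_left, hm, hr]
  have hm0 : m ≠ 0 := fun h => hover (by rw [hm, h, Nat.cast_zero])
  have h1 : classInner (fun n : N => χ n) φ ≠ 0 := by
    rw [he, hem]; exact_mod_cast (by omega : m + r ≠ 0)
  obtain ⟨ψ, hψ, hind, hψe, -⟩ := exists_inertia_correspondent hχ hφ h1 T hT hNT
  have hψne : classInner (fun t : T => χ t) ψ ≠ 0 := by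
    rw [classInner_comm, ← classInner_indFun T ψ (isClassFunction hχc), hind, classInner_self hχ, map_one]
    exact one_ne_zero
  have huniq : ∀ θ' : T → ℂ, IsIrrCharacter T θ' → classInner (fun n : N => θ' ⟨(n : G), hNT n.2⟩) φ ≠ 0 →
      classInner (fun t : T => χ t) θ' ≠ 0 → θ' = ψ := by
    intro θ' hθ' hov' hne'
    by_contra hd
    obtain ⟨R', hR', hsum'⟩ := exists_eq_add_of_constituent hres hψ hψne
    have hR'ne : classInner R' θ' ≠ 0 := by
      rw [hsum', classInner_add_left, classInner_ne hψ hθ' (fun h => hd h.symm), zero_add] at hne'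
      exact hne'
    obtain ⟨R'', hR'', hsum''⟩ := exists_eq_add_of_constituent hR' hθ' hR'ne
    obtain ⟨a, ha⟩ := classInner_characters_nat (hcomp (isCharacter_of_irr hθ')) (isCharacter_of_irr hφ)
    obtain ⟨b, hb⟩ := classInner_characters_nat (hcomp hR'') (isCharacter_of_irr hφ)
    have h2 : (e : ℂ) = e + (a + b) := by
      conv_lhs => rw [← he]
      rw [show (fun n : N => χ n) = (fun n : N => ψ ⟨(n : G), hNT n.2⟩) +
          ((fun n : N => θ' ⟨(n : G), hNT n.2⟩) + fun n : N => R'' ⟨(n : G), hNT n.2⟩) from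
        funext fun n => by
          have := congrFun hsum' ⟨(n : G), hNT n.2⟩
          rw [hsum''] at this
          exact this, classInner_add_left, classInner_add_left, hψe, he, ha, hb]
    have h3 : a + b = 0 := by exact_mod_cast (left_eq_add.1 h2)
    exact hov' (by rw [ha, show a = 0 by omega, Nat.cast_zero])
  refine ⟨by rw [huniq θ hθ hover hne, hind], fun θ' h1 h2 h3 => (huniq θ' h1 h2 h3).trans (huniq θ hθ hover hne).symm⟩

/-- Induction from the inertia group is irreducible and injective. -/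
theorem isIrr_indFun_of_inertia {N : Subgroup G} [N.Normal] [Fintype N] {φ : N → ℂ} (hφ : IsIrrCharacter N φ)
    (T : Subgroup G) [Fintype T] (hT : T = inertia φ) (hNT : N ≤ T) {θ : T → ℂ} (hθ : IsIrrCharacter T θ)
    (hover : classInner (fun n : N => θ ⟨(n : G), hNT n.2⟩) φ ≠ 0) :
    IsIrrCharacter G (indFun T θ) ∧
      ∀ θ' : T → ℂ, IsIrrCharacter T θ' → classInner (fun n : N => θ' ⟨(n : G), hNT n.2⟩) φ ≠ 0 →
        indFun T θ' = indFun T θ → θ' = θ := by
  classical
  haveI : Fintype (IrrCharacter G) := Fintype.ofFinite _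
  have h1 : indFun T θ 1 ≠ 0 := by
    rw [indFun_apply_one]
    exact mul_ne_zero (Nat.cast_ne_zero.2 Subgroup.index_ne_zero_of_finite) (apply_one_ne_zero hθ)
  obtain ⟨χ, m, hm, hχ⟩ := exists_constituent (isCharacter_indFun T (isCharacter_of_irr hθ)) h1
  have hne : classInner (fun t : T => (χ : G → ℂ) t) θ ≠ 0 := by
    rw [classInner_comm, ← classInner_indFun T θ (isClassFunction (isCharacter_of_irr χ.2)), hχ, Complex.conj_natCast]
    exact Nat.cast_ne_zero.2 hm.ne'
  obtain ⟨hind, huniq⟩ := correspondent_unique hφ T hT hNT hθ hover χ.2 hne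
  refine ⟨hind ▸ χ.2, fun θ' hθ' hov' he => huniq θ' hθ' hov' ?_⟩
  rw [classInner_comm, ← classInner_indFun T θ' (isClassFunction (isCharacter_of_irr χ.2)), he, hind,
    classInner_self χ.2, map_one]
  exact one_ne_zero

end CfsgLib.CharBasics
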