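import Cfsg.Agent.Clifford.ResidualExt
import Cfsg.Agent.Clifford.BrauerPerm
import Cfsg.Agent.GaloisDegree.Basic
import Cfsg.Agent.PCore.PSolvable
import Cfsg.Agent.TwoClasses.Basic

/-!
A `p`-solvable group all of whose character degrees are prime to `p` has a normal abelian Sylow `p`-subgroup.
-/

set_option autoImplicit false

namespace CfsgLib.ItoConverse

open Cfsg CfsgLib.CharBasics
open scoped commutatorElement

universe u

variable {G : Type u} [Group G] [Finite G]

theorem exists_over (N : Subgroup G) [N.Normal] (θ : IrrCharacter N) :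
    ∃ (χ : IrrCharacter G) (e : ℕ), 0 < e ∧ charDegree (χ : G → ℂ) =
      e * (Clifford.inertia (θ : N → ℂ)).index * charDegree (θ : N → ℂ) ∧
      ∀ [Fintype N], classInner (fun n : N => (χ : G → ℂ) n) (θ : N → ℂ) = (e : ℂ) := by
  classical
  haveI := Fintype.ofFinite G
  haveI := Fintype.ofFinite N
  have hc := isCharacter_indFun N (isCharacter_of_irr θ.2)
  obtain ⟨χ, m, hm, hme⟩ := exists_constituent hc (by
    rw [indFun_apply_one]
    exact mul_ne_zero (Nat.cast_ne_zero.2 Subgroup.index_ne_zero_of_finite) (apply_one_ne_zero θ.2))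
  rw [classInner_indFun N _ (isClassFunction (isCharacter_of_irr χ.2))] at hme
  have he : classInner (fun n : N => (χ : G → ℂ) n) (θ : N → ℂ) = (m : ℂ) := by
    rw [classInner_comm, hme, Complex.conj_natCast]
  refine ⟨χ, m, hm, ?_, fun {_} => by convert! he⟩
  have h1 := Clifford.restrict_one_eq χ.2 θ.2 (by rw [he]; exact Nat.cast_ne_zero.2 hm.ne')
  rw [he, apply_one (isCharacter_of_irr χ.2), apply_one (isCharacter_of_irr θ.2), ← Nat.cast_mul, ← Nat.cast_mul,
    Nat.cast_inj] at h1
  exact h1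

theorem degree_dvd_over (N : Subgroup G) [N.Normal] (θ : IrrCharacter N) :
    ∃ χ : IrrCharacter G, charDegree (θ : N → ℂ) ∣ charDegree (χ : G → ℂ) := by
  obtain ⟨χ, e, -, h, -⟩ := exists_over N θ
  exact ⟨χ, ⟨e * (Clifford.inertia (θ : N → ℂ)).index, by rw [h]; ring⟩⟩

theorem isMulCommutative_of_all_linear (h : ∀ χ : IrrCharacter G, charDegree (χ : G → ℂ) = 1) :
    IsMulCommutative G := by
  refine ⟨⟨fun a b => ?_⟩⟩
  by_contra hab
  obtain ⟨χ, hχ⟩ := GaloisDegree.exists_apply_ne (fun e => hab (commutatorElement_eq_one_iff_mul_comm.1 e))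
  refine hχ (GaloisDegree.apply_commutator_of_linear χ.2 (h χ) ?_)
  rw [commutator_def]
  exact Subgroup.commutator_mem_commutator (Subgroup.mem_top a) (Subgroup.mem_top b)

/-- A `p`-group of index prime to `p` normalising `N`, all characters of `N` being invariant, centralises it. -/
theorem centralizes_of_invariant {p : ℕ} [Fact p.Prime] (N : Subgroup G) [hN : N.Normal] (P : Sylow p G)
    (hNP : ∀ g : G, ∃ n ∈ N, ∃ x ∈ (P : Subgroup G), g = n * x) (hcop : ¬ p ∣ Nat.card N)
    (hinv : ∀ (θ : IrrCharacter N) (g : G) (n : N),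
      (θ : N → ℂ) ⟨g * n * g⁻¹, hN.conj_mem (n : G) n.2 g⟩ = (θ : N → ℂ) n) :
    N ≤ Subgroup.centralizer ((P : Subgroup G) : Set G) := by
  classical
  -- every class of `N` is fixed
  have hcl : ∀ (g : G) (n : N), ∃ m : N, (m : G) * n * (m : G)⁻¹ = g * n * g⁻¹ := by
    intro g
    let c : MulAut N := MulAut.conjNormal g
    let τ : ConjClasses N ≃ ConjClasses N :=
      { toFun := ConjClasses.map c.toMonoidHom
        invFun := ConjClasses.map c.symm.toMonoidHom
        left_inv := fun C => by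
          obtain ⟨a, rfl⟩ := ConjClasses.exists_rep C
          exact congrArg ConjClasses.mk (c.symm_apply_apply a)
        right_inv := fun C => by
          obtain ⟨a, rfl⟩ := ConjClasses.exists_rep C
          exact congrArg ConjClasses.mk (c.apply_symm_apply a) }
    have h := Clifford.brauer_perm (Equiv.refl _) τ fun θ n n' hn => by
      have he : ConjClasses.mk n' = ConjClasses.mk (c n) := hn
      rw [ConjClasses.mk_eq_mk_iff_isConj] at he
      show (θ : N → ℂ) n' = _
      rw [apply_isConj (isCharacter_of_irr θ.2) he]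
      exact (congrArg _ (Subtype.ext (MulAut.conjNormal_apply g n))).trans (hinv θ g n)
    haveI := finite_irrCharacter (G := N)
    haveI := Fintype.ofFinite (ConjClasses N)
    rw [Nat.card_congr (Equiv.subtypeUnivEquiv fun χ => by exact rfl), card_irr] at h
    intro n
    have hn : τ (ConjClasses.mk n) = ConjClasses.mk n := by
      by_contra hne
      have hlt : Nat.card {C : ConjClasses N // τ C = C} < Nat.card (ConjClasses N) := by
        rw [Nat.card_eq_fintype_card, Nat.card_eq_fintype_card]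
        exact Fintype.card_subtype_lt hne
      omega
    have hconj : IsConj n (c n) := (ConjClasses.mk_eq_mk_iff_isConj.1 hn).symm
    obtain ⟨m, hm⟩ := isConj_iff.1 hconj
    refine ⟨m, ?_⟩
    have := congrArg Subtype.val hm
    simp only [Subgroup.coe_mul, InvMemClass.coe_inv, c, MulAut.conjNormal_apply] at this
    exact this
  -- centralisers contain Sylow subgroups
  have hmeet : ∀ n : N, ∃ t : N, t⁻¹ * n * t ∈ (Subgroup.centralizer ((P : Subgroup G) : Set G)).subgroupOf N := by
    intro n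
    let C := Subgroup.centralizer ({(n : G)} : Set G)
    obtain ⟨Q⟩ : Nonempty (Sylow p C) := inferInstance
    have hidx : ¬ p ∣ C.index := by
      have hsup : N ⊔ C = ⊤ := by
        rw [eq_top_iff]
        intro g _
        obtain ⟨m, hm⟩ := hcl g n
        have hmem : (m : G)⁻¹ * g ∈ C := by
          rw [Subgroup.mem_centralizer_singleton_iff]
          have h1 : (m : G)⁻¹ * ((m : G) * n * (m : G)⁻¹) * m = n := by group
          rw [hm] at h1
          calc (m : G)⁻¹ * g * n = (m : G)⁻¹ * (g * n * g⁻¹) * m * ((m : G)⁻¹ * g) := by group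
            _ = n * ((m : G)⁻¹ * g) := by rw [h1]
        rw [show g = (m : G) * ((m : G)⁻¹ * g) by group]
        exact Subgroup.mul_mem_sup m.2 hmem
      intro hd
      have h1 : C.index ∣ Nat.card N := by
        have h2 := PCore.card_sup_dvd N C
        rw [sup_comm, hsup, Subgroup.card_top, ← C.card_mul_index] at h2
        exact Nat.dvd_of_mul_dvd_mul_left Nat.card_pos h2
      exact hcop (hd.trans h1)
    let Q' : Sylow p G := Sylow.ofCard ((Q : Subgroup C).map C.subtype) (by
      rw [Subgroup.card_map_of_injective C.subtype_injective, Q.card_eq_multiplicity, ← C.card_mul_index,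
        Nat.factorization_mul Nat.card_pos.ne' Subgroup.index_ne_zero_of_finite, Finsupp.add_apply,
        Nat.factorization_eq_zero_of_not_dvd hidx, add_zero])
    obtain ⟨g, hg⟩ := MulAction.exists_smul_eq G P Q'
    obtain ⟨m, hm, x, hx, rfl⟩ := hNP g
    refine ⟨⟨m, hm⟩, ?_⟩
    rw [Subgroup.mem_subgroupOf, Subgroup.mem_centralizer_iff]
    intro y hy
    have hx' : x⁻¹ * y * x ∈ (P : Subgroup G) := mul_mem (mul_mem (inv_mem hx) hy) hx
    have hyQ : m * y * m⁻¹ ∈ (Q' : Subgroup G) := by
      rw [← hg]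
      refine ⟨x⁻¹ * y * x, hx', ?_⟩
      simp [mul_assoc]
    have hQC : (Q' : Subgroup G) ≤ C := Subgroup.map_subtype_le _
    have h2 : m * y * m⁻¹ * n = n * (m * y * m⁻¹) := Subgroup.mem_centralizer_singleton_iff.1 (hQC hyQ)
    simp only [Subgroup.coe_mul, InvMemClass.coe_inv]
    calc y * (m⁻¹ * n * m) = m⁻¹ * (m * y * m⁻¹ * n) * m := by group
      _ = m⁻¹ * (n * (m * y * m⁻¹)) * m := by rw [h2]
      _ = m⁻¹ * n * m * y := by group
  have htop := CfsgLib.TwoClasses.eq_top_of_conj_cover _ hmeet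
  exact fun n hn => Subgroup.mem_subgroupOf.1 (htop ▸ Subgroup.mem_top (⟨n, hn⟩ : N))

theorem normal_abelian_sylow (p : ℕ) [hp : Fact p.Prime] : ∀ (G : Type u) [Group G] [Finite G],
    Cfsg.IsPSolvable p G → (∀ χ : IrrCharacter G, ¬ p ∣ charDegree (χ : G → ℂ)) →
    ∃ P : Subgroup G, P.Normal ∧ IsMulCommutative P ∧ IsPGroup p P ∧ ¬ p ∣ P.index := by
  suffices main : ∀ (n : ℕ) (G : Type u) [Group G] [Finite G], Nat.card G = n →
      Cfsg.IsPSolvable p G → (∀ χ : IrrCharacter G, ¬ p ∣ charDegree (χ : G → ℂ)) →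
      ∃ P : Subgroup G, P.Normal ∧ IsMulCommutative P ∧ IsPGroup p P ∧ ¬ p ∣ P.index from
    fun G _ _ => main _ G rfl
  intro n
  induction n using Nat.strong_induction_on with
  | _ n ih =>
  intro G _ _ hn hs hdeg
  classical
  haveI := Fintype.ofFinite G
  by_cases hpG : ¬ p ∣ Nat.card G
  · exact ⟨⊥, inferInstance, inferInstance, IsPGroup.of_bot, by rwa [Subgroup.index_bot]⟩
  rw [not_not] at hpG
  haveI : Nontrivial G := Finite.one_lt_card_iff_nontrivial.1
    (lt_of_lt_of_le hp.out.one_lt (Nat.le_of_dvd Nat.card_pos hpG))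
  have hquot : ∀ N : Subgroup G, N.Normal → N ≠ ⊥ → ∃ M : Subgroup G, M.Normal ∧ N ≤ M ∧ ¬ p ∣ M.index ∧
      ∃ k, Nat.card M = Nat.card N * p ^ k := by
    intro N hN hN0
    have hlt : Nat.card (G ⧸ N) < n := by
      rw [← hn, Subgroup.card_eq_card_quotient_mul_card_subgroup N]
      exact lt_mul_of_one_lt_right Nat.card_pos ((Subgroup.one_lt_card_iff_ne_bot N).2 hN0)
    obtain ⟨Pb, hPn, -, hPp, hPi⟩ := ih _ hlt (G ⧸ N) rfl (PCore.isPSolvable_quotient hs N) fun ψ => by
      have h := hdeg ⟨fun x => (ψ : G ⧸ N → ℂ) (QuotientGroup.mk' N x),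
        Clifford.isIrrCharacter_comp ψ.2 _ (QuotientGroup.mk'_surjective N)⟩
      simpa [charDegree] using h
    obtain ⟨k, hk⟩ := hPp.exists_card_eq
    refine ⟨Pb.comap (QuotientGroup.mk' N), hPn.comap _, fun x hx => ?_, ?_, k, by rw [PCore.card_comap_mk', hk]⟩
    · rw [Subgroup.mem_comap, QuotientGroup.mk'_apply, (QuotientGroup.eq_one_iff x).2 hx]; exact Pb.one_mem
    · rw [Subgroup.index_comap_of_surjective _ (QuotientGroup.mk'_surjective N)]; exact hPi
  by_cases hO : Cfsg.pCore p G = ⊥
  · exfalso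
    have hO' : Cfsg.pPrimeCore p G ≠ ⊥ := (PCore.cores_ne_bot hs).resolve_left (fun h => h hO)
    have hcopN : ¬ p ∣ Nat.card (Cfsg.pPrimeCore p G) := PCore.not_dvd_card_pPrimeCore p G
    haveI hNn : (Cfsg.pPrimeCore p G).Normal := Cfsg.pPrimeCore_normal p G
    obtain ⟨M, hMn, hNM, hMi, k, hMk⟩ := hquot _ hNn hO'
    by_cases hMT : M = ⊤
    · subst hMT
      rw [Subgroup.card_top] at hMk
      set N := Cfsg.pPrimeCore p G
      obtain ⟨P⟩ : Nonempty (Sylow p G) := inferInstance
      have hidx : N.index = p ^ k := by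
        rw [← N.card_mul_index] at hMk
        exact Nat.eq_of_mul_eq_mul_left Nat.card_pos hMk
      have hNP : ∀ g : G, ∃ n ∈ N, ∃ x ∈ (P : Subgroup G), g = n * x := by
        intro g
        have hsup : N ⊔ (P : Subgroup G) = ⊤ := by
          rw [← Subgroup.index_eq_one]
          obtain ⟨i, -, hi⟩ := (Nat.dvd_prime_pow hp.out).1 (hidx ▸ Subgroup.index_dvd_of_le
            (le_sup_left : N ≤ N ⊔ (P : Subgroup G)))
          rcases Nat.eq_zero_or_pos i with rfl | hi0
          · rw [hi, pow_zero]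
          · exact absurd ((dvd_pow_self p hi0.ne').trans (hi ▸ Subgroup.index_dvd_of_le
              (le_sup_right : (P : Subgroup G) ≤ N ⊔ (P : Subgroup G)))) P.not_dvd_index
        obtain ⟨n, hn, x, hx, he⟩ := Subgroup.mem_sup_of_normal_left.1 (hsup ▸ Subgroup.mem_top g)
        exact ⟨n, hn, x, hx, he.symm⟩
      have hcent := centralizes_of_invariant N P hNP hcopN fun θ g n => by
        haveI := Fintype.ofFinite N
        obtain ⟨χ, e, he, -, hin⟩ := exists_over N θ
        have hirr := Clifford.isIrr_restrict_of_pow_index hp.out N hidx χ.2 (hdeg χ)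
        have heq : (fun n : N => (χ : G → ℂ) n) = (θ : N → ℂ) := by
          by_contra hne
          have := hin
          rw [classInner_ne hirr θ.2 hne] at this
          exact (Nat.cast_ne_zero.2 he.ne') this.symm
        rw [← heq]
        exact isClassFunction (isCharacter_of_irr χ.2) (n : G) g
      haveI hPn : (P : Subgroup G).Normal := by
        refine ⟨fun y hy g => ?_⟩
        obtain ⟨n, hn, x, hx, rfl⟩ := hNP g
        have hc : x * y * x⁻¹ * n = n * (x * y * x⁻¹) := Subgroup.mem_centralizer_iff.1 (hcent hn) _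
          (mul_mem (mul_mem hx hy) (inv_mem hx))
        rw [show n * x * y * (n * x)⁻¹ = n * (x * y * x⁻¹) * n⁻¹ by group, ← hc, mul_inv_cancel_right]
        exact mul_mem (mul_mem hx hy) (inv_mem hx)
      have hP0 : (P : Subgroup G) = ⊥ := le_bot_iff.1 (hO ▸ PCore.le_pCore hPn P.2)
      exact P.ne_bot_of_dvd_card hpG hP0
    · have hlt : Nat.card M < n := by
        rw [← hn]
        exact lt_of_le_of_ne (Subgroup.card_le_card_group M) fun h => hMT (Subgroup.eq_top_of_card_eq M h)
      obtain ⟨Q, hQn, -, hQp, hQi⟩ := ih _ hlt M rfl (PCore.isPSolvable_subgroup hs M) fun θ hd => by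
        obtain ⟨χ, hχ⟩ := degree_dvd_over M θ
        exact hdeg χ (hd.trans hχ)
      have hQ : Q = ⊥ := by
        have h1 : Q.map M.subtype ≤ Cfsg.pCore p G :=
          (Subgroup.map_mono (PCore.le_pCore hQn hQp)).trans
            ((PCore.map_pCore_normal M).le.trans inf_le_left)
        rw [hO, le_bot_iff, Subgroup.map_eq_bot_iff_of_injective _ M.subtype_injective] at h1
        exact h1
      rw [hQ, Subgroup.index_bot] at hQi
      rw [← M.card_mul_index] at hpG
      exact (hp.out.dvd_mul.1 hpG).elim hQi hMi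
  · haveI hNn : (Cfsg.pCore p G).Normal := Cfsg.pCore_normal p G
    obtain ⟨M, hMn, hNM, hMi, k, hMk⟩ := hquot _ hNn hO
    obtain ⟨i, hi⟩ := IsPGroup.iff_card.1 (PCore.isPGroup_pCore p G)
    have hMp : IsPGroup p M := IsPGroup.of_card (n := i + k) (by rw [hMk, hi, pow_add])
    refine ⟨M, hMn, ?_, hMp, hMi⟩
    refine isMulCommutative_of_all_linear fun θ => ?_
    obtain ⟨χ, hχ⟩ := degree_dvd_over M θ
    obtain ⟨j, hj⟩ := hMp.exists_card_eq
    obtain ⟨l, -, hl⟩ := (Nat.dvd_prime_pow hp.out).1 (hj ▸ degree_dvd θ)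
    rcases Nat.eq_zero_or_pos l with rfl | hl0
    · simpa using hl
    · exact absurd ((dvd_pow_self p hl0.ne').trans (hl ▸ hχ)) (hdeg χ)

end CfsgLib.ItoConverse
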