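import Mathlib.GroupTheory.FiniteAbelian.Duality
import Mathlib.RingTheory.RootsOfUnity.AlgebraicallyClosed
import Cfsg.Agent.CharBasics.Avg
import Cfsg.Agent.Blocks.Local

/-!
Knörr's quadratic forms on functions on an abelian group.

For a list of pairs `(K, q)` with `q ≥ 1 + [C : K]` and the weight `∏ (c ∈ K ? 1 : q)` the Galois
average of the weighted square norm of a function with cyclotomic integer Fourier coefficients is
bounded below by the number of characters at which a certain coefficient sum avoids `M`.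
-/

set_option autoImplicit false

namespace CfsgLib.CharBasics.Knorr

open Polynomial CfsgLib.Blocks Cfsg
open scoped ComplexConjugate

variable {C : Type*} [CommGroup C] [Finite C]

noncomputable instance : Fintype (C →* ℂˣ) :=
  @Fintype.ofFinite _ (Nat.finite_of_card_ne_zero (by
    haveI : NeZero (Monoid.exponent C : ℂ) := ⟨Nat.cast_ne_zero.2 Monoid.ExponentExists.of_finite.exponent_ne_zero⟩
    rw [CommGroup.card_monoidHom_of_hasEnoughRootsOfUnity]
    exact Nat.card_pos.ne'))

instance : NeZero (Monoid.exponent C : ℂ) :=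
  ⟨Nat.cast_ne_zero.2 Monoid.ExponentExists.of_finite.exponent_ne_zero⟩

theorem card_dual : Fintype.card (C →* ℂˣ) = Nat.card C := by
  rw [← Nat.card_eq_fintype_card, CommGroup.card_monoidHom_of_hasEnoughRootsOfUnity]

/-- Characters trivial on `K`. -/
def dual (K : Subgroup C) : Subgroup (C →* ℂˣ) where
  carrier := {l | ∀ k ∈ K, l k = 1}
  one_mem' := fun k _ => rfl
  mul_mem' := fun {a b} ha hb k hk => by rw [MonoidHom.mul_apply, ha k hk, hb k hk, mul_one]
  inv_mem' := fun {a} ha k hk => by rw [MonoidHom.inv_apply, ha k hk, inv_one]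

theorem exists_dual_ne_one {K : Subgroup C} {c : C} (hc : c ∉ K) : ∃ l ∈ dual K, l c ≠ 1 := by
  haveI : NeZero (Monoid.exponent (C ⧸ K) : ℂ) :=
    ⟨Nat.cast_ne_zero.2 Monoid.ExponentExists.of_finite.exponent_ne_zero⟩
  obtain ⟨l, hl⟩ := CommGroup.exists_apply_ne_one_of_hasEnoughRootsOfUnity (C ⧸ K) ℂ
    (a := (c : C ⧸ K)) (by rwa [Ne, QuotientGroup.eq_one_iff])
  exact ⟨l.comp (QuotientGroup.mk' K), fun k hk => by simp [(QuotientGroup.eq_one_iff k).2 hk], hl⟩

theorem sum_dual (K : Subgroup C) [Fintype (dual K)] (c : C) [Decidable (c ∈ K)] :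
    ∑ d : dual K, (((d : C →* ℂˣ) c : ℂˣ) : ℂ) = if c ∈ K then (Nat.card (dual K) : ℂ) else 0 := by
  split_ifs with h
  · rw [Finset.sum_congr rfl (g := fun _ => (1 : ℂ)) (fun d _ => by rw [d.2 c h]; rfl)]
    simp [Nat.card_eq_fintype_card]
  · obtain ⟨l, hl, hlc⟩ := exists_dual_ne_one h
    have e : ((l c : ℂˣ) : ℂ) * ∑ d : dual K, (((d : C →* ℂˣ) c : ℂˣ) : ℂ) =
        ∑ d : dual K, (((d : C →* ℂˣ) c : ℂˣ) : ℂ) := by
      rw [Finset.mul_sum]
      conv_rhs => rw [← Equiv.sum_comp (Equiv.mulLeft (⟨l, hl⟩ : dual K))]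
      simp
    refine (mul_left_eq_self₀.1 e).resolve_left fun h1 => hlc (Units.ext h1)

theorem sum_hom [Fintype C] (l : C →* ℂˣ) [Decidable (l = 1)] :
    ∑ c : C, ((l c : ℂˣ) : ℂ) = if l = 1 then (Nat.card C : ℂ) else 0 := by
  split_ifs with h
  · subst h; simp [Nat.card_eq_fintype_card]
  · obtain ⟨b, hb⟩ : ∃ b, l b ≠ 1 := by
      by_contra hh
      push Not at hh
      exact h (MonoidHom.ext hh)
    have e : ((l b : ℂˣ) : ℂ) * ∑ c : C, ((l c : ℂˣ) : ℂ) = ∑ c : C, ((l c : ℂˣ) : ℂ) := by
      rw [Finset.mul_sum]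
      conv_rhs => rw [← Equiv.sum_comp (Equiv.mulLeft b)]
      simp
    exact (mul_left_eq_self₀.1 e).resolve_left fun h1 => hb (Units.ext h1)

theorem card_dual_mul_card (K : Subgroup C) : Nat.card (dual K) * Nat.card K = Nat.card C := by
  classical
  haveI : Fintype C := Fintype.ofFinite C
  haveI : Fintype (dual K) := Fintype.ofFinite _
  have h : (∑ c : C, ∑ d : dual K, (((d : C →* ℂˣ) c : ℂˣ) : ℂ)) = (Nat.card C : ℂ) := by
    rw [Finset.sum_comm, Finset.sum_congr rfl (g := fun d : dual K => if (d : C →* ℂˣ) = 1 then (Nat.card C : ℂ) else 0) (fun d _ => sum_hom _)]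
    exact (Finset.sum_eq_single (1 : dual K) (fun d _ hd => if_neg fun h => hd (Subtype.ext h))
      (fun h => absurd (Finset.mem_univ _) h)).trans (if_pos rfl)
  rw [Finset.sum_congr rfl (fun c _ => sum_dual K c), ← Finset.sum_filter, Finset.sum_const, nsmul_eq_mul] at h
  rw [Nat.card_eq_fintype_card (α := K), Fintype.card_subtype, mul_comm]
  exact_mod_cast h

theorem card_dual_eq_index (K : Subgroup C) : Nat.card (dual K) = K.index :=
  Nat.eq_of_mul_eq_mul_right Nat.card_pos ((card_dual_mul_card K).trans K.index_mul_card.symm)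

/-- The function with the given Fourier coefficients, evaluated at `z`. -/
noncomputable def psi (z : ℂ) (f : (C →* ℂˣ) → ℤ[X]) (c : C) : ℂ :=
  ∑ l : C →* ℂˣ, aeval z (f l) * ((l c : ℂˣ) : ℂ)

theorem psi_sub (z : ℂ) (f g : (C →* ℂˣ) → ℤ[X]) (c : C) : psi z (f - g) c = psi z f c - psi z g c := by
  simp [psi, ← Finset.sum_sub_distrib, sub_mul]

theorem psi_shift (z : ℂ) (f : (C →* ℂˣ) → ℤ[X]) (m : C →* ℂˣ) (c : C) :
    psi z (fun l => f (m * l)) c = (((m⁻¹ : C →* ℂˣ) c : ℂˣ) : ℂ) * psi z f c := by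
  rw [psi, psi, Finset.mul_sum]
  conv_rhs => rw [← Equiv.sum_comp (Equiv.mulLeft m)]
  refine Finset.sum_congr rfl fun l _ => ?_
  simp only [Equiv.coe_mulLeft, MonoidHom.mul_apply, MonoidHom.inv_apply, Units.val_mul, Units.val_inv_eq_inv_val]
  field_simp

theorem psi_inv [Fintype C] (z : ℂ) (f : (C →* ℂˣ) → ℤ[X]) (m : C →* ℂˣ) :
    ∑ c : C, psi z f c * (((m⁻¹ : C →* ℂˣ) c : ℂˣ) : ℂ) = (Nat.card C : ℂ) * aeval z (f m) := by
  classical
  have e : ∀ l : C →* ℂˣ, ∀ c : C, aeval z (f l) * ((l c : ℂˣ) : ℂ) * (((m⁻¹ : C →* ℂˣ) c : ℂˣ) : ℂ)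
      = aeval z (f l) * (((l * m⁻¹ : C →* ℂˣ) c : ℂˣ) : ℂ) := fun l c => by
    rw [MonoidHom.mul_apply, Units.val_mul, mul_assoc]
  simp only [psi, Finset.sum_mul]
  rw [Finset.sum_comm, Finset.sum_eq_single m, Finset.sum_congr rfl (fun c _ => e m c), ← Finset.mul_sum,
    sum_hom, if_pos (mul_inv_cancel m), mul_comm]
  · intro l _ hl
    rw [Finset.sum_congr rfl (fun c _ => e l c), ← Finset.mul_sum, sum_hom,
      if_neg (fun h => hl (mul_inv_eq_one.1 h)), mul_zero]
  · exact fun h => absurd (Finset.mem_univ _) h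

theorem norm_hom (l : C →* ℂˣ) (c : C) : ‖((l c : ℂˣ) : ℂ)‖ = 1 := by
  refine Complex.norm_eq_one_of_pow_eq_one (n := orderOf c) ?_ (orderOf_pos c).ne'
  rw [← Units.val_pow_eq_pow_val, ← map_pow, pow_orderOf_eq_one, map_one, Units.val_one]

theorem parseval [Fintype C] (z : ℂ) (f : (C →* ℂˣ) → ℤ[X]) :
    ∑ c : C, ‖psi z f c‖ ^ 2 = (Nat.card C : ℝ) * ∑ l, ‖aeval z (f l)‖ ^ 2 := by
  have h : ∑ c : C, psi z f c * conj (psi z f c) =
      (Nat.card C : ℂ) * ∑ l, aeval z (f l) * conj (aeval z (f l)) := by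
    have e : ∀ c : C, psi z f c * conj (psi z f c) =
        ∑ l, (psi z f c * (((l⁻¹ : C →* ℂˣ) c : ℂˣ) : ℂ)) * conj (aeval z (f l)) := by
      intro c
      conv_lhs => arg 2; rw [psi, map_sum]
      rw [Finset.mul_sum]
      refine Finset.sum_congr rfl fun l _ => ?_
      rw [map_mul, MonoidHom.inv_apply, Units.val_inv_eq_inv_val, Complex.inv_eq_conj (norm_hom l c)]
      ring
    rw [Finset.sum_congr rfl (fun c _ => e c), Finset.sum_comm, Finset.mul_sum]
    refine Finset.sum_congr rfl fun l _ => ?_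
    rw [← Finset.sum_mul, psi_inv]; ring
  simp only [Complex.mul_conj'] at h
  exact_mod_cast h

/-- The weight of a list of factors. -/
noncomputable def weight : List (Subgroup C × ℕ) → C → ℝ
  | [], _ => 1
  | (K, q) :: L, c => weight L c * (by classical exact if c ∈ K then 1 else (q : ℝ))

theorem weight_nonneg : ∀ (L : List (Subgroup C × ℕ)) (c : C), 0 ≤ weight L c
  | [], _ => zero_le_one
  | (K, q) :: L, c => mul_nonneg (weight_nonneg L c) (by split_ifs <;> positivity)

/-- The coefficient sums attached to a list of factors. -/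
noncomputable def csum : List (Subgroup C × ℕ) → ((C →* ℂˣ) → ℤ[X]) → (C →* ℂˣ) → ℤ[X]
  | [], f, l => f l
  | (K, _) :: L, f, l => by classical exact ∑ d : dual K, csum L f ((d : C →* ℂˣ) * l)

theorem csum_shift : ∀ (L : List (Subgroup C × ℕ)) (f : (C →* ℂˣ) → ℤ[X]) (m l : C →* ℂˣ),
    csum L (fun l => f (m * l)) l = csum L f (m * l)
  | [], f, m, l => rfl
  | (K, q) :: L, f, m, l => by
    simp only [csum]
    exact Finset.sum_congr rfl fun d _ => by
      rw [csum_shift L f m]
      exact congrArg _ (mul_left_comm m (d : C →* ℂˣ) l)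

theorem csum_sub : ∀ (L : List (Subgroup C × ℕ)) (f g : (C →* ℂˣ) → ℤ[X]) (l : C →* ℂˣ),
    csum L (f - g) l = csum L f l - csum L g l
  | [], f, g, l => rfl
  | (K, q) :: L, f, g, l => by
    simp only [csum]
    rw [← Finset.sum_sub_distrib]
    exact Finset.sum_congr rfl fun d _ => csum_sub L f g _

open Classical in
/-- A full list makes all the coefficient sums equal. -/
theorem psi_csum : ∀ (L : List (Subgroup C × ℕ)) (z : ℂ) (f : (C →* ℂˣ) → ℤ[X]) (c : C),
    psi z (csum L f) c = (if ∀ P ∈ L, c ∈ P.1 then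
      (((L.map fun P => P.1.index).prod : ℕ) : ℂ) * psi z f c else 0) := by
  intro L
  induction L with
  | nil => intro z f c; simp [psi, csum]
  | cons P L ih =>
    obtain ⟨K, q⟩ := P
    intro z f c
    classical
    have e : psi z (csum ((K, q) :: L) f) c =
        (∑ d : dual K, (((d : C →* ℂˣ) c : ℂˣ) : ℂ)) * psi z (csum L f) c := by
      calc psi z (csum ((K, q) :: L) f) c
          = ∑ d : dual K, psi z (fun l => csum L f ((d : C →* ℂˣ) * l)) c := by
            simp only [psi, csum, map_sum, Finset.sum_mul]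
            exact Finset.sum_comm
        _ = ∑ d : dual K, ((((d⁻¹ : dual K) : C →* ℂˣ) c : ℂˣ) : ℂ) * psi z (csum L f) c :=
            Finset.sum_congr rfl fun d _ => by rw [psi_shift]; rfl
        _ = _ := by
            rw [← Finset.sum_mul]
            congr 1
            exact Equiv.sum_comp (Equiv.inv (dual K)) fun d : dual K => (((d : C →* ℂˣ) c : ℂˣ) : ℂ)
    rw [e, ih, sum_dual, card_dual_eq_index]
    by_cases hK : c ∈ K
    · rw [if_pos hK]
      by_cases hL : ∀ P ∈ L, c ∈ P.1
      · rw [if_pos hL, if_pos ((List.forall_mem_cons (p := fun P : Subgroup C × ℕ => c ∈ P.1)).2 ⟨hK, hL⟩)]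
        simp [List.map_cons, mul_assoc]
      · rw [if_neg hL, if_neg (fun h => hL ((List.forall_mem_cons (p := fun P : Subgroup C × ℕ => c ∈ P.1)).1 h).2), mul_zero]
    · rw [if_neg hK, zero_mul, if_neg (fun h => hK ((List.forall_mem_cons (p := fun P : Subgroup C × ℕ => c ∈ P.1)).1 h).1)]

variable {p : ℕ} {M : Ideal AlgInt} {N : ℕ}

theorem card_le_sum_conjugates (hN : N ≠ 0) (f : ℤ[X]) (hf : aeval (zetaRoot N) f ≠ 0) :
    ((coprimeResidues N).card : ℝ) ≤ ∑ j ∈ coprimeResidues N, ‖aeval (zetaRoot N ^ j) f‖ ^ 2 := by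
  refine card_le_sum_of_one_le_prod _ _ (fun j hj => ?_) ?_
  · exact pow_pos (norm_pos_iff.mpr (aeval_conjugate_ne_zero hN f (Finset.mem_filter.mp hj).2 hf)) 2
  · obtain ⟨R, hR⟩ := prod_coprime_int hN f
    rw [Finset.prod_pow, ← norm_prod, hR]
    have hR0 : R ≠ 0 := by
      intro h0
      rw [h0, Int.cast_zero, Finset.prod_eq_zero_iff] at hR
      obtain ⟨j, hj, hj0⟩ := hR
      exact aeval_conjugate_ne_zero hN f (Finset.mem_filter.mp hj).2 hf hj0
    rw [Complex.norm_intCast, sq_abs]
    exact_mod_cast (sq_pos_of_ne_zero hR0 : (0 : ℤ) < R ^ 2)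

open Classical in
/-- The characters at which the coefficient sum avoids `M`. -/
noncomputable def good (M : Ideal AlgInt) (N : ℕ) (L : List (Subgroup C × ℕ))
    (f : (C →* ℂˣ) → ℤ[X]) : Finset (C →* ℂˣ) :=
  Finset.univ.filter fun l => ¬ MemLocalIdeal M (aeval (zetaRoot N) (csum L f l))

/-- Galois average of the weighted square norm. -/
noncomputable def form [Fintype C] (N : ℕ) (L : List (Subgroup C × ℕ)) (f : (C →* ℂˣ) → ℤ[X]) : ℝ :=
  ∑ j ∈ coprimeResidues N, ∑ c : C, weight L c * ‖psi (zetaRoot N ^ j) f c‖ ^ 2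

theorem form_ge (hM : IsPModular p M) (hN : N ≠ 0) [Fintype C] :
    ∀ (L : List (Subgroup C × ℕ)), (∀ P ∈ L, P.1.index < P.2) → ∀ f : (C →* ℂˣ) → ℤ[X],
      (Nat.card C : ℝ) * (((coprimeResidues N).card : ℝ) * (good M N L f).card) ≤ form N L f := by
  classical
  intro L
  induction L with
  | nil =>
    intro _ f
    simp only [form, weight, one_mul, parseval, ← Finset.mul_sum]
    refine mul_le_mul_of_nonneg_left ?_ (Nat.cast_nonneg _)
    rw [Finset.sum_comm, mul_comm, ← nsmul_eq_mul, ← Finset.sum_const]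
    refine (Finset.sum_le_sum fun l hl => ?_).trans
      (Finset.sum_le_sum_of_subset_of_nonneg (Finset.subset_univ _) fun l _ _ => by positivity)
    exact card_le_sum_conjugates hN _ fun h0 => (Finset.mem_filter.1 hl).2 (by
      show MemLocalIdeal M (aeval (zetaRoot N) (f l))
      rw [h0]; exact memLocalIdeal_zero hM)
  | cons P L ih =>
    obtain ⟨K, q⟩ := P
    intro hL f
    have hL' := (List.forall_mem_cons.1 hL).2
    have hq : K.index < q := (List.forall_mem_cons.1 hL).1
    haveI : Fintype (dual K) := Fintype.ofFinite _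
    set g : dual K → (C →* ℂˣ) → ℤ[X] := fun d => f - fun l => f ((d : C →* ℂˣ) * l) with hg
    -- the pointwise bound
    have hpt : ∀ z : ℂ, ∀ c : C, weight L c * ‖psi z f c‖ ^ 2
        + (1 / 2) * ∑ d : dual K, weight L c * ‖psi z (g d) c‖ ^ 2 ≤ weight ((K, q) :: L) c * ‖psi z f c‖ ^ 2 := by
      intro z c
      have e : ∀ d : dual K, ‖psi z (g d) c‖ ^ 2 =
          (2 - 2 * ((((d⁻¹ : dual K) : C →* ℂˣ) c : ℂˣ) : ℂ).re) * ‖psi z f c‖ ^ 2 := by
        intro d
        rw [hg, psi_sub, psi_shift, ← one_sub_mul, norm_mul, mul_pow]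
        congr 1
        have h1 : ‖((((d : C →* ℂˣ)⁻¹) c : ℂˣ) : ℂ)‖ ^ 2 = 1 := by rw [norm_hom, one_pow]
        rw [Complex.sq_norm, Complex.normSq_apply] at h1 ⊢
        simp only [InvMemClass.coe_inv, Complex.sub_re, Complex.sub_im, Complex.one_re, Complex.one_im]
        linarith
      have hs : ∑ d : dual K, ((((d⁻¹ : dual K) : C →* ℂˣ) c : ℂˣ) : ℂ).re =
          if c ∈ K then (K.index : ℝ) else 0 := by
        have e2 := Equiv.sum_comp (Equiv.inv (dual K)) fun d : dual K => (((d : C →* ℂˣ) c : ℂˣ) : ℂ)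
        rw [sum_dual, card_dual_eq_index] at e2
        rw [← Complex.re_sum]
        simp only [Equiv.inv_apply] at e2
        rw [e2]
        split_ifs <;> simp
      rw [Finset.sum_congr rfl (fun d _ => by rw [e d]), ← Finset.mul_sum, ← Finset.sum_mul,
        Finset.sum_sub_distrib, ← Finset.mul_sum, hs, Finset.sum_const, Finset.card_univ,
        ← Nat.card_eq_fintype_card, card_dual_eq_index, nsmul_eq_mul, weight]
      have hw := weight_nonneg L c
      have hn : 0 ≤ ‖psi z f c‖ ^ 2 := by positivity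
      have hq' : (K.index : ℝ) + 1 ≤ q := by exact_mod_cast hq
      split_ifs with hc
      · exact le_of_eq (by ring)
      · nlinarith [mul_nonneg hw hn]
    have hform : form N L f + (1 / 2) * ∑ d : dual K, form N L (g d) ≤ form N ((K, q) :: L) f := by
      simp only [form]
      rw [Finset.sum_comm (s := (Finset.univ : Finset (dual K))), Finset.mul_sum, ← Finset.sum_add_distrib]
      refine Finset.sum_le_sum fun j _ => ?_
      rw [Finset.sum_comm (s := (Finset.univ : Finset (dual K))), Finset.mul_sum, ← Finset.sum_add_distrib]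
      exact Finset.sum_le_sum fun c _ => hpt _ c
    refine le_trans ?_ hform
    have h1 := ih hL' f
    have h2 := Finset.sum_le_sum (s := (Finset.univ : Finset (dual K))) fun d _ => ih hL' (g d)
    set T := good M N L f with hT
    set u : (C →* ℂˣ) → ℂ := fun l => aeval (zetaRoot N) (csum L f l) with hu
    -- pairs
    set A := (Finset.univ : Finset ((C →* ℂˣ) × dual K)).filter
      fun x => x.1 ∈ T ∧ (x.2 : C →* ℂˣ) * x.1 ∉ T with hA
    set B := (Finset.univ : Finset ((C →* ℂˣ) × dual K)).filter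
      fun x => x.1 ∉ T ∧ (x.2 : C →* ℂˣ) * x.1 ∈ T with hB
    have hmemT : ∀ l, l ∈ T ↔ ¬ MemLocalIdeal M (u l) := fun l => by simp [hT, good, hu]
    have hgood : ∀ (d : dual K) (l : C →* ℂˣ), l ∈ good M N L (g d) ↔
        ¬ MemLocalIdeal M (u l - u ((d : C →* ℂˣ) * l)) := by
      intro d l
      simp [good, hg, hu, csum_sub, csum_shift]
    have hAB : A.card + B.card ≤ ∑ d : dual K, (good M N L (g d)).card := by
      have e : ∑ d : dual K, (good M N L (g d)).card = ((Finset.univ : Finset ((C →* ℂˣ) × dual K)).filter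
          fun x => x.1 ∈ good M N L (g x.2)).card := by
        rw [Finset.card_filter, Fintype.sum_prod_type_right]
        refine Finset.sum_congr rfl fun d _ => ?_
        rw [← Finset.card_filter]
        congr 1; ext l; simp
      rw [e, ← Finset.card_union_of_disjoint]
      · refine Finset.card_le_card fun x hx => ?_
        rw [Finset.mem_filter, hgood]
        refine ⟨Finset.mem_univ _, fun h => ?_⟩
        rcases Finset.mem_union.1 hx with h' | h' <;>
          obtain ⟨-, ha, hb⟩ := Finset.mem_filter.1 h' <;> rw [hmemT] at ha hb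
        · exact ha (by
            have := memLocalIdeal_add hM h (not_not.1 hb)
            rwa [sub_add_cancel] at this)
        · exact hb (by
            have := memLocalIdeal_sub hM (not_not.1 ha) h
            rwa [sub_sub_cancel] at this)
      · rw [Finset.disjoint_left]
        intro x hx hx'
        exact (Finset.mem_filter.1 hx').2.1 (Finset.mem_filter.1 hx).2.1
    have hsym : A.card = B.card := by
      refine Finset.card_bij' (fun x _ => ((x.2 : C →* ℂˣ) * x.1, x.2⁻¹)) (fun x _ => ((x.2 : C →* ℂˣ) * x.1, x.2⁻¹))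
        (fun x hx => ?_) (fun x hx => ?_) (fun x _ => ?_) (fun x _ => ?_)
      · obtain ⟨-, ha, hb⟩ := Finset.mem_filter.1 hx
        exact Finset.mem_filter.2 ⟨Finset.mem_univ _, hb, by simpa using ha⟩
      · obtain ⟨-, ha, hb⟩ := Finset.mem_filter.1 hx
        exact Finset.mem_filter.2 ⟨Finset.mem_univ _, hb, by simpa using ha⟩
      · simp
      · simp
    have hgrow : (good M N ((K, q) :: L) f).card ≤ T.card + A.card := by
      rw [← Finset.card_sdiff_add_card_inter (good M N ((K, q) :: L) f) T, add_comm]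
      refine add_le_add (Finset.card_le_card Finset.inter_subset_right) ?_
      have hex : ∀ l ∈ good M N ((K, q) :: L) f \ T, ∃ d : dual K, (d : C →* ℂˣ) * l ∈ T := by
        intro l hl
        by_contra hno
        push Not at hno
        refine (Finset.mem_filter.1 (Finset.mem_sdiff.1 hl).1).2 ?_
        simp only [csum, map_sum]
        refine memLocalIdeal_sum hM _ fun d _ => ?_
        have := hno d
        rw [hmemT, not_not] at this
        exact this
      choose d hd using hex
      refine Finset.card_le_card_of_injOn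
        (fun l => if h : l ∈ good M N ((K, q) :: L) f \ T then ((d l h : C →* ℂˣ) * l, (d l h)⁻¹) else (l, 1))
        (fun l hl => ?_) (fun a ha b hb hab => ?_)
      · have hl : l ∈ good M N ((K, q) :: L) f \ T := hl
        simp only [dif_pos hl, Finset.mem_coe]
        exact Finset.mem_filter.2 ⟨Finset.mem_univ _, hd l hl, by simpa using (Finset.mem_sdiff.1 hl).2⟩
      · have ha : a ∈ good M N ((K, q) :: L) f \ T := ha
        have hb : b ∈ good M N ((K, q) :: L) f \ T := hb
        simp only [dif_pos ha, dif_pos hb, Prod.mk.injEq, inv_inj] at hab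
        rw [hab.2] at hab
        exact mul_left_cancel hab.1
    have hcount : 2 * ((good M N ((K, q) :: L) f).card : ℝ) ≤ 2 * T.card + ∑ d : dual K, ((good M N L (g d)).card : ℝ) := by
      have : 2 * (good M N ((K, q) :: L) f).card ≤ 2 * T.card + ∑ d : dual K, (good M N L (g d)).card := by omega
      exact_mod_cast this
    rw [← Finset.mul_sum, ← Finset.mul_sum] at h2
    nlinarith [mul_nonneg (Nat.cast_nonneg (α := ℝ) (Nat.card C)) (Nat.cast_nonneg (α := ℝ) (coprimeResidues N).card),
      mul_le_mul_of_nonneg_left hcount (mul_nonneg (Nat.cast_nonneg (α := ℝ) (Nat.card C))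
        (Nat.cast_nonneg (α := ℝ) (coprimeResidues N).card))]

/-- Knörr: a full list bounds the form below by `|C|²` when the value at one avoids `M`. -/
theorem form_ge_card_sq (hM : IsPModular p M) (hN : N ≠ 0) [Fintype C] (hpC : ¬ p ∣ Nat.card C)
    (L : List (Subgroup C × ℕ)) (hL : ∀ P ∈ L, P.1.index < P.2)
    (hfull : ∀ c : C, (∀ P ∈ L, c ∈ P.1) → c = 1) (f : (C →* ℂˣ) → ℤ[X])
    (hf : ¬ MemLocalIdeal M (psi (zetaRoot N) f 1)) :
    (Nat.card C : ℝ) ^ 2 * (coprimeResidues N).card ≤ form N L f := by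
  classical
  have hall : good M N L f = Finset.univ := by
    refine Finset.filter_true_of_mem fun l _ h => ?_
    have e := psi_inv (zetaRoot N) (csum L f) l
    rw [Finset.sum_eq_single (1 : C) (fun c _ hc => by rw [psi_csum, if_neg (fun h => hc (hfull c h)), zero_mul])
      (fun h => absurd (Finset.mem_univ _) h), psi_csum, if_pos (fun (P : Subgroup C × ℕ) _ => P.1.one_mem), map_one, Units.val_one,
      mul_one] at e
    have hprod : ¬ p ∣ (L.map fun P => P.1.index).prod := by
      rw [(Nat.prime_iff.1 hM.1).dvd_prod_iff]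
      rintro ⟨a, ha, hpa⟩
      obtain ⟨P, -, rfl⟩ := List.mem_map.1 ha
      exact hpC (hpa.trans (Subgroup.index_dvd_card _))
    refine hf ?_
    have h1 : MemLocalIdeal M ((((L.map fun P => P.1.index).prod : ℕ) : ℂ)⁻¹ *
        ((Nat.card C : ℂ) * aeval (zetaRoot N) (csum L f l))) :=
      memLocalIdeal_mul_left hM (memLocalRing_natCast_inv hM hprod)
        (memLocalIdeal_mul_left hM (memLocalRing_natCast hM _) h)
    rw [← e] at h1
    rwa [← mul_assoc, inv_mul_cancel₀, one_mul] at h1
    exact Nat.cast_ne_zero.2 fun h0 => hprod (by rw [h0]; exact dvd_zero p)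
  have h := form_ge hM hN L hL f
  rw [hall, Finset.card_univ, card_dual] at h
  linarith

end CfsgLib.CharBasics.Knorr
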