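import Cfsg.Agent.CharBasics.Ortho
import Cfsg.Agent.BrauerInd.FSInd

/-!
Real irreducible characters of a group of odd order.
-/

set_option autoImplicit false

namespace CfsgLib.CharBasics

open Cfsg CfsgLib.BrauerInd
open scoped ComplexConjugate

variable {G : Type*} [Group G]

/-- Burnside: a group of odd order has only one real irreducible character. -/
theorem eq_one_of_odd_of_real [Finite G] (hodd : Odd (Nat.card G)) {χ : G → ℂ} (h : IsIrrCharacter G χ)
    (hr : ∀ g, conj (χ g) = χ g) : χ = fun _ => 1 := by
  classical
  haveI := Fintype.ofFinite G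
  by_contra hne
  have h0 : ind χ = 0 := by
    have hco : (Nat.card G).Coprime 2 := Nat.coprime_two_right.2 hodd
    have := classInner_ne h (isIrrCharacter_one (G := G)) hne
    rw [classInner_one] at this
    rw [← this, ind]
    congr 1
    exact Fintype.sum_equiv (powCoprime hco) _ _ fun s => by
      show χ (s * s) = χ (s ^ 2)
      rw [sq]
  obtain ⟨g, hg⟩ := (fs_trichotomy h).2.1 h0
  exact hg (Complex.conj_eq_iff_im.1 (hr g))

end CfsgLib.CharBasics
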