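import Cfsg.Agent.CharBasics.RealOddDegree
import Cfsg.Agent.CoprimeAction.Frattini
import Cfsg.Agent.S4261
import Cfsg.Agent.PGroup.Basic
import Mathlib.GroupTheory.FiniteAbelian.Duality
import Mathlib.GroupTheory.Abelianization.Finite

/-!
# Real odd degree characters of a solvable group and of a Sylow `2`-normalizer
-/

set_option autoImplicit false
set_option linter.unusedSectionVars false
set_option linter.style.haveILetI false

namespace CfsgLib.RealOdd

open Cfsg CfsgLib.CharBasics CfsgLib.Clifford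
open scoped ComplexConjugate

universe u

variable {A B : Type u} [Group A] [Fintype A] [Group B] [Fintype B]

/-- Linear characters of a `2`-group are real. -/
def Elem (P : Type u) [Group P] : Prop := ∀ ν : P →* ℂ, ∀ x, ν x * ν x = 1

theorem irr_descend (π : A →* B) (hπ : Function.Surjective π) {χ : A → ℂ} (hχ : IsIrrCharacter A χ)
    (hker : ∀ a, π a = 1 → χ a = χ 1) : ∃ β : IrrCharacter B, ∀ a, (β : B → ℂ) (π a) = χ a := by
  classical
  haveI : Fintype (A ⧸ π.ker) := Fintype.ofFinite _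
  obtain ⟨ψ, hψ⟩ := exists_quotient_irr ⟨χ, hχ⟩ π.ker fun a ha => hker a ha
  let e := QuotientGroup.quotientKerEquivOfSurjective π hπ
  refine ⟨⟨fun b => (ψ : A ⧸ π.ker → ℂ) (e.symm b),
    irr_comp_of_surjective ψ.2 e.symm.toMonoidHom e.symm.surjective⟩, fun a => ?_⟩
  show (ψ : A ⧸ π.ker → ℂ) (e.symm (π a)) = χ a
  rw [show e.symm (π a) = (a : A ⧸ π.ker) from e.symm_apply_eq.2 rfl]
  exact hψ a

theorem hom_descend (π : A →* B) (hπ : Function.Surjective π) (ν : A →* ℂ) (hker : ∀ a, π a = 1 → ν a = 1) :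
    ∃ ω : B →* ℂ, ∀ a, ω (π a) = ν a := by
  obtain ⟨β, hβ⟩ := irr_descend π hπ (isIrr_hom ν) fun a ha => by rw [hker a ha, map_one]
  refine ⟨{ toFun := (β : B → ℂ), map_one' := by rw [← map_one π, hβ, map_one], map_mul' := fun x y => ?_ }, hβ⟩
  obtain ⟨a, rfl⟩ := hπ x
  obtain ⟨b, rfl⟩ := hπ y
  rw [← map_mul, hβ, hβ, hβ, map_mul]

section Factor

variable (π : A →* B) (hπ : Function.Surjective π) (μ : A →* ℂ) (hμ : ∀ a, μ a * μ a = 1)
include hπ hμ

omit hπ in
theorem isReal_mu (a : A) : (μ a).im = 0 := (hom_real_iff μ).2 hμ a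

/-- Characters over a real linear character of the kernel are those of the image. -/
theorem card_ext :
    Nat.card {ψ : RO A // ∀ a, π a = 1 → (ψ.1 : A → ℂ) a = μ a * (ψ.1 : A → ℂ) 1} = Nat.card (RO B) := by
  classical
  have hi : ∀ β : RO B, IsIrrCharacter A (fun a => μ a * (β.1 : B → ℂ) (π a)) := fun β =>
    isIrrCharacter_linear_mul (irr_comp_of_surjective β.1.2 π hπ) μ
  have hre : ∀ β : RO B, IsReal (fun a => μ a * (β.1 : B → ℂ) (π a)) := fun β a => by
    rw [Complex.mul_im, β.2.1, isReal_mu μ hμ a, mul_zero, zero_mul, add_zero]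
  have hdeg : ∀ β : RO B, charDegree (fun a => μ a * (β.1 : B → ℂ) (π a)) = charDegree (β.1 : B → ℂ) := fun β => by
    simp [charDegree]
  let F : RO B → {ψ : RO A // ∀ a, π a = 1 → (ψ.1 : A → ℂ) a = μ a * (ψ.1 : A → ℂ) 1} := fun β =>
    ⟨⟨⟨_, hi β⟩, hre β, (hdeg β).symm ▸ β.2.2⟩, fun a ha => by simp [ha]⟩
  refine (Nat.card_eq_of_bijective F ⟨fun β β' h => ?_, fun ψ => ?_⟩).symm
  · refine Subtype.ext (Subtype.ext (funext fun b => ?_))
    obtain ⟨a, rfl⟩ := hπ b
    have h1 : μ a * (β.1 : B → ℂ) (π a) = μ a * (β'.1 : B → ℂ) (π a) :=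
      congrFun (congrArg Subtype.val (congrArg Subtype.val (congrArg Subtype.val h))) a
    exact mul_left_cancel₀ (fun h0 => by simpa [h0] using hμ a) h1
  · have hirr := isIrrCharacter_linear_mul ψ.1.1.2 μ
    obtain ⟨β, hβ⟩ := irr_descend π hπ hirr fun a ha => by
      rw [ψ.2 a ha, ← mul_assoc, hμ, one_mul, map_one, one_mul]
    refine ⟨⟨β, fun b => ?_, ?_⟩, ?_⟩
    · obtain ⟨a, rfl⟩ := hπ b
      rw [hβ, Complex.mul_im, ψ.1.2.1, isReal_mu μ hμ a, mul_zero, zero_mul, add_zero]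
    · have : (β : B → ℂ) 1 = (ψ.1.1 : A → ℂ) 1 := (congrArg _ (map_one π)).symm.trans ((hβ 1).trans (by rw [map_one, one_mul]))
      simpa [charDegree, this] using ψ.1.2.2
    · refine Subtype.ext (Subtype.ext (Subtype.ext (funext fun a => ?_)))
      show μ a * (β : B → ℂ) (π a) = _
      rw [hβ, ← mul_assoc, hμ, one_mul]

theorem real_of_allReal (hB : AllReal B) {ψ : A → ℂ} (hψ : IsIrrCharacter A ψ) (hd : Odd (charDegree ψ))
    (h : ∀ a, π a = 1 → ψ a = μ a * ψ 1) : IsReal ψ := by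
  obtain ⟨β, hβ⟩ := irr_descend π hπ (isIrrCharacter_linear_mul hψ μ) fun a ha => by
    rw [h a ha, ← mul_assoc, hμ, one_mul, map_one, one_mul]
  have h1 : (β : B → ℂ) 1 = ψ 1 := by rw [← map_one π, hβ, map_one, one_mul]
  have hr := hB β (by simpa [charDegree, h1] using hd)
  intro a
  have e : ψ a = μ a * (β : B → ℂ) (π a) := by rw [hβ, ← mul_assoc, hμ, one_mul]
  rw [e, Complex.mul_im, hr, isReal_mu μ hμ a, mul_zero, zero_mul, add_zero]

end Factor

/-- A normal subgroup of odd order lies in the kernel. -/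
theorem trivial_on_odd (K : Subgroup A) [K.Normal] (hK : Odd (Nat.card K)) (χ : RO A) :
    ∀ k ∈ K, (χ.1 : A → ℂ) k = (χ.1 : A → ℂ) 1 := by
  classical
  haveI := Fintype.ofFinite K
  have hc := CharBasics.isCharacter_restrict (isCharacter_of_irr χ.1.2) K
  obtain ⟨θ, hne, hr, -⟩ := exists_real_constituent hc (fun k => χ.2.1 k)
    (by simpa [charDegree] using χ.2.2)
  have hθ := eq_one_of_odd_of_real hK θ.2 fun g => Complex.conj_eq_iff_im.2 (hr g)
  rw [hθ] at hne
  have h := restrict_eq_smul_of_invariant χ.1.2 (CharBasics.isIrrCharacter_one (G := K)) (fun g => rfl) hne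
  intro k hk
  have h1 := restrict_scalar_of_mult χ.1.2 (CharBasics.isIrrCharacter_one (G := K)) rfl h ⟨k, hk⟩
  rwa [one_mul] at h1

theorem card_RO_eq_of_odd_ker (π : A →* B) (hπ : Function.Surjective π) (hK : Odd (Nat.card π.ker)) :
    Nat.card (RO A) = Nat.card (RO B) := by
  rw [← card_ext π hπ (1 : A →* ℂ) (fun a => by simp)]
  refine (Nat.card_congr (Equiv.subtypeUnivEquiv fun ψ a ha => ?_)).symm
  rw [trivial_on_odd π.ker hK ψ a ha]
  simp

theorem allReal_of_surjective (π : A →* B) (hπ : Function.Surjective π) (hA : AllReal A) : AllReal B := by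
  intro β hd b
  obtain ⟨a, rfl⟩ := hπ b
  exact hA ⟨fun a => (β : B → ℂ) (π a), irr_comp_of_surjective β.2 π hπ⟩ (by simpa [charDegree] using hd) a

/-- Restricting a constituent along a homomorphism. -/
theorem inner_comp_ne {C D : Type u} [Group C] [Fintype C] [Group D] [Fintype D] (i : D →* C) {χ : C → ℂ}
    (hχ : IsCharacter C χ) (ν : C →* ℂ) (h : classInner χ (fun c => ν c) ≠ 0) :
    classInner (fun d => χ (i d)) (fun d => ν (i d)) ≠ 0 := by
  obtain ⟨R, hR, hsum⟩ := exists_eq_add_of_constituent hχ (isIrr_hom ν) h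
  have hν : IsIrrCharacter D (fun d => (ν.comp i) d) := isIrr_hom (ν.comp i)
  rw [hsum]
  refine classInner_add_ne_zero_left (A := fun d => ν (i d)) (B := fun d => R (i d)) (isCharacter_of_irr hν)
    (CharBasics.isCharacter_comp hR i) (isCharacter_of_irr hν) ?_
  show classInner (fun d => (ν.comp i) d) (fun d => (ν.comp i) d) ≠ 0
  rw [classInner_self hν]
  exact one_ne_zero

theorem conj_indFun (H : Subgroup A) (ψ : H → ℂ) (g : A) :
    conj (indFun H ψ g) = indFun H (fun h => conj (ψ h)) g := by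
  simp only [indFun, map_mul, map_inv₀, map_natCast, map_sum]
  congr 1
  refine Finset.sum_congr rfl fun x _ => ?_
  by_cases hx : x⁻¹ * g * x ∈ H
  · rw [show x⁻¹ * g * x = ((⟨_, hx⟩ : H) : A) from rfl, extendByZero_coe, extendByZero_coe]
  · rw [extendByZero_of_not_mem H _ hx, extendByZero_of_not_mem H _ hx, map_zero]

theorem isReal_indFun (H : Subgroup A) {ψ : H → ℂ} (h : IsReal ψ) : IsReal (indFun H ψ) :=
  isReal_iff.2 (funext fun g => by rw [conj_indFun, isReal_iff.1 h])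

section Over

variable {L : Subgroup A} [L.Normal] [Fintype L] (θ : L →* ℂ) (T : Subgroup A) [Fintype T]
  (hT : T = inertia (fun l : L => θ l)) (hLT : L ≤ T)
include hT

theorem over_iff {ψ : T → ℂ} (hψ : IsIrrCharacter T ψ) :
    classInner (fun l : L => ψ ⟨(l : A), hLT l.2⟩) (fun l => θ l) ≠ 0 ↔
      ∀ l : L, ψ ⟨(l : A), hLT l.2⟩ = θ l * ψ 1 := by
  constructor
  · intro h l
    have h1 := restrict_inertia_eq (isIrr_hom θ) T hT.le hLT hψ h
    have h2 := congrFun h1 l
    have h3 := congrFun h1 1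
    simp only [Pi.smul_apply, smul_eq_mul, map_one, mul_one] at h2 h3
    rw [h2, mul_comm, ← h3]
    rfl
  · intro h
    rw [show (fun l : L => ψ ⟨(l : A), hLT l.2⟩) = ψ 1 • (fun l : L => θ l) from funext fun l => by
      rw [h, Pi.smul_apply, smul_eq_mul, mul_comm], classInner_smul_left, classInner_self (isIrr_hom θ), mul_one]
    exact apply_one_ne_zero hψ

theorem exists_correspondent {χ : A → ℂ} (hχ : IsIrrCharacter A χ)
    (hne : classInner (fun l : L => χ l) (fun l => θ l) ≠ 0) :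
    ∃ ψ : T → ℂ, IsIrrCharacter T ψ ∧ indFun T ψ = χ ∧ charDegree χ = T.index * charDegree ψ ∧
      ∀ l : L, ψ ⟨(l : A), hLT l.2⟩ = θ l * ψ 1 := by
  obtain ⟨ψ, hψ, hind, he, -⟩ := exists_inertia_correspondent hχ (isIrr_hom θ) hne T hT hLT
  exact ⟨ψ, hψ, hind, by rw [← hind, charDegree_indFun T (isCharacter_of_irr hψ)],
    (over_iff θ T hT hLT hψ).1 (he.symm ▸ hne)⟩

variable (hreal : ∀ l, θ l * θ l = 1)
include hreal

theorem correspondent_real {ψ : T → ℂ} (hψ : IsIrrCharacter T ψ)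
    (h : ∀ l : L, ψ ⟨(l : A), hLT l.2⟩ = θ l * ψ 1) (hr : IsReal (indFun T ψ)) : IsReal ψ := by
  refine isReal_iff.2 (indFun_inertia_inj (isIrr_hom θ) T hT hLT (BrauerInd.isIrr_star hψ) hψ ?_
    ((over_iff θ T hT hLT hψ).2 h) ?_)
  · refine (over_iff θ T hT hLT (BrauerInd.isIrr_star hψ)).2 fun l => ?_
    show conj (ψ ⟨(l : A), hLT l.2⟩) = _
    rw [h, map_mul, Complex.conj_eq_iff_im.2 ((hom_real_iff θ).2 hreal l)]
  · funext g
    rw [← conj_indFun, Complex.conj_eq_iff_im.2 (hr g)]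

/-- Real characters of odd degree over a real linear character. -/
theorem card_over (hodd : Odd T.index) :
    Nat.card {χ : RO A // classInner (fun l : L => (χ.1 : A → ℂ) l) (fun l => θ l) ≠ 0} =
      Nat.card {ψ : RO T // ∀ l : L, (ψ.1 : T → ℂ) ⟨(l : A), hLT l.2⟩ = θ l * (ψ.1 : T → ℂ) 1} := by
  classical
  have key : ∀ ψ : {ψ : RO T // ∀ l : L, (ψ.1 : T → ℂ) ⟨(l : A), hLT l.2⟩ = θ l * (ψ.1 : T → ℂ) 1},
      IsIrrCharacter A (indFun T (ψ.1.1 : T → ℂ)) ∧
        classInner (fun l : L => indFun T (ψ.1.1 : T → ℂ) l) (fun l => θ l) ≠ 0 := fun ψ => by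
    have h := (over_iff θ T hT hLT ψ.1.1.2).2 ψ.2
    obtain ⟨h1, h2⟩ := indFun_inertia_irr (isIrr_hom θ) T hT hLT ψ.1.1.2 h
    exact ⟨h1, h2.symm ▸ h⟩
  let F : {ψ : RO T // ∀ l : L, (ψ.1 : T → ℂ) ⟨(l : A), hLT l.2⟩ = θ l * (ψ.1 : T → ℂ) 1} →
      {χ : RO A // classInner (fun l : L => (χ.1 : A → ℂ) l) (fun l => θ l) ≠ 0} := fun ψ =>
    ⟨⟨⟨_, (key ψ).1⟩, isReal_indFun T ψ.1.2.1, by
      show Odd (charDegree (indFun T (ψ.1.1 : T → ℂ)))
      rw [charDegree_indFun T (isCharacter_of_irr ψ.1.1.2)]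
      exact hodd.mul ψ.1.2.2⟩, (key ψ).2⟩
  refine (Nat.card_eq_of_bijective F ⟨fun ψ ψ' h => ?_, fun χ => ?_⟩).symm
  · exact Subtype.ext (Subtype.ext (Subtype.ext (indFun_inertia_inj (isIrr_hom θ) T hT hLT ψ.1.1.2 ψ'.1.1.2
      ((over_iff θ T hT hLT ψ.1.1.2).2 ψ.2) ((over_iff θ T hT hLT ψ'.1.1.2).2 ψ'.2)
      (congrArg Subtype.val (congrArg Subtype.val (congrArg Subtype.val h))))))
  · obtain ⟨ψ, hψ, hind, hdeg, hres⟩ := exists_correspondent θ T hT hLT χ.1.1.2 χ.2
    have hr : IsReal ψ := correspondent_real θ T hT hLT hreal hψ hres (hind ▸ χ.1.2.1)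
    have hd := χ.1.2.2
    rw [hdeg, Nat.odd_mul] at hd
    exact ⟨⟨⟨⟨ψ, hψ⟩, hr, hd.2⟩, hres⟩, Subtype.ext (Subtype.ext (Subtype.ext hind))⟩

end Over

/-- Counting pairs with orbits of the same size. -/
theorem card_eq_of_pairs {X Y R : Type u} [Finite X] [Finite Y] [Finite R] (CX : X → R → Prop) (CY : Y → R → Prop)
    (E : R → R → Prop) (hX : ∀ x, ∃ r, CX x r) (hX' : ∀ x r, CX x r → ∀ r', (CX x r' ↔ E r r'))
    (hY : ∀ y, ∃ r, CY y r) (hY' : ∀ y r, CY y r → ∀ r', (CY y r' ↔ E r r'))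
    (hc : ∀ r, Nat.card {x // CX x r} = Nat.card {y // CY y r}) : Nat.card X = Nat.card Y := by
  classical
  haveI := Fintype.ofFinite R
  have key : ∀ {Z : Type u} [Finite Z] (C : Z → R → Prop), (∀ z, ∃ r, C z r) →
      (∀ z r, C z r → ∀ r', (C z r' ↔ E r r')) →
      (Nat.card Z : ℚ) = ∑ r, (Nat.card {z // C z r} : ℚ) / Nat.card {r' // E r r'} := by
    intro Z _ C hZ hZ'
    haveI := Fintype.ofFinite Z
    calc (Nat.card Z : ℚ) = ∑ z : Z, ∑ r, if C z r then (1 : ℚ) / Nat.card {r' // E r r'} else 0 := by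
          rw [Nat.card_eq_fintype_card, ← Finset.card_univ, Finset.cast_card]
          refine Finset.sum_congr rfl fun z _ => ?_
          obtain ⟨r₀, h₀⟩ := hZ z
          have hsz : ∀ r, C z r → Nat.card {r' // E r r'} = (Finset.univ.filter fun r' => C z r').card := by
            intro r hr
            rw [Nat.card_eq_fintype_card, Fintype.card_subtype]
            congr 1
            ext r'
            simp [hZ' z r hr r']
          rw [← Finset.sum_filter, Finset.sum_congr rfl (fun r hr => by rw [hsz r (Finset.mem_filter.1 hr).2]),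
            Finset.sum_const, nsmul_eq_mul, mul_one_div_cancel]
          exact Nat.cast_ne_zero.2 (Finset.card_pos.2 ⟨r₀, Finset.mem_filter.2 ⟨Finset.mem_univ _, h₀⟩⟩).ne'
      _ = _ := by
          rw [Finset.sum_comm]
          refine Finset.sum_congr rfl fun r _ => ?_
          rw [← Finset.sum_filter, Finset.sum_const, nsmul_eq_mul, Nat.card_eq_fintype_card (α := {z // C z r}),
            Fintype.card_subtype, mul_one_div]
  have h1 := key CX hX hX'
  have h2 := key CY hY hY'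
  simp only [hc] at h1
  exact_mod_cast h1.trans h2.symm

/-- The normalizer of the image of a Sylow subgroup is the image of the normalizer. -/
theorem exists_normalizer_preimage {p : ℕ} [Fact p.Prime] (f : A →* B) (hf : Function.Surjective f) (P : Sylow p A)
    {y : B} (hy : y ∈ Subgroup.normalizer (((P : Subgroup A).map f : Subgroup B) : Set B)) :
    ∃ x ∈ Subgroup.normalizer ((P : Subgroup A) : Set A), f x = y := by
  obtain ⟨x₀, rfl⟩ := hf y
  set M := ((P : Subgroup A).map f).comap f with hM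
  have h1 : (P : Subgroup A) ≤ M := Subgroup.le_comap_map f _
  have h2 : ((x₀ • P : Sylow p A) : Subgroup A) ≤ M := by
    intro u hu
    have hu' := Transfer.mem_smul_sylow_iff.1 hu
    show f u ∈ (P : Subgroup A).map f
    have := (Subgroup.mem_normalizer_iff.1 hy (f (x₀⁻¹ * u * x₀))).1 ⟨_, hu', rfl⟩
    simpa [map_mul, map_inv, mul_assoc] using this
  obtain ⟨m, hm⟩ := MulAction.exists_smul_eq M ((x₀ • P).subtype h2) (P.subtype h1)
  simp_rw [Sylow.smul_subtype, Subgroup.smul_def] at hm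
  have hmx : (m : A) * x₀ ∈ Subgroup.normalizer ((P : Subgroup A) : Set A) :=
    Sylow.smul_eq_iff_mem_normalizer.1 (by rw [mul_smul]; exact Sylow.subtype_injective hm)
  obtain ⟨q, hq, hfq⟩ := m.2
  refine ⟨q⁻¹ * ((m : A) * x₀), Subgroup.mul_mem _ (Subgroup.inv_mem _ (Subgroup.le_normalizer hq)) hmx, ?_⟩
  rw [map_mul, map_inv, hfq, map_mul, inv_mul_cancel_left]

theorem elem_of_surjective (π : A →* B) (hπ : Function.Surjective π) (h : Elem A) : Elem B := fun ν y => by
  obtain ⟨x, rfl⟩ := hπ y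
  exact h (ν.comp π) x

theorem elem_iff {P : Type u} [Group P] [Fintype P] (hP : IsPGroup 2 P) : Elem P ↔ commutator P = frattini P := by
  classical
  haveI : Fact (Nat.Prime 2) := ⟨Nat.prime_two⟩
  have hle := CoprimeAction.commutator_le_frattini' hP
  constructor
  · intro h
    refine le_antisymm hle (CoprimeAction.frattini_le_of_elementary (p := 2) _ le_rfl fun x => ?_)
    by_contra hx
    haveI : NeZero (Monoid.exponent (Abelianization P) : ℂ) :=
      ⟨Nat.cast_ne_zero.2 Monoid.exponent_ne_zero_of_finite⟩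
    have hne : Abelianization.of (x ^ 2) ≠ 1 := fun h1 => hx ((QuotientGroup.eq_one_iff _).1 h1)
    obtain ⟨φ, hφ⟩ := CommGroup.exists_apply_ne_one_of_hasEnoughRootsOfUnity (Abelianization P) ℂ hne
    refine hφ (Units.ext ?_)
    have := h ((Units.coeHom ℂ).comp (φ.comp Abelianization.of)) x
    simpa [map_pow, pow_two] using this
  · intro h ν x
    have hx : x ^ 2 ∈ commutator P := h ▸ CfsgLib.PGroup.pow_mem_frattini hP x
    have h1 := Abelianization.commutator_subset_ker ν.toHomUnits hx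
    rw [MonoidHom.mem_ker, Units.ext_iff] at h1
    simpa [pow_two] using h1

end CfsgLib.RealOdd
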