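import Cfsg.Agent.Clifford.Correspondence
import Cfsg.Agent.Clifford.LinChar
import Cfsg.Agent.Clifford.ExtCriteria
import Cfsg.Agent.Blocks.DetTwist
import Cfsg.Agent.CharBasics.OddReal
import Cfsg.Agent.CharBasics.Extra
import Cfsg.Agent.Blocks.PairAlg.Basic
import Cfsg.Agent.Transfer.Fusion

/-!
# Real characters of odd degree and linear characters of normal subgroups
-/

set_option autoImplicit false
set_option linter.unusedSectionVars false
set_option linter.style.haveILetI false

namespace CfsgLib.RealOdd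

open Cfsg CfsgLib.CharBasics CfsgLib.Clifford
open scoped ComplexConjugate

universe u

/-- All values are real. -/
def IsReal {A : Type*} (f : A → ℂ) : Prop := ∀ a, (f a).im = 0

theorem isReal_iff {A : Type*} {f : A → ℂ} : IsReal f ↔ (fun a => conj (f a)) = f :=
  ⟨fun h => funext fun a => Complex.conj_eq_iff_im.2 (h a), fun h a => Complex.conj_eq_iff_im.1 (congrFun h a)⟩

/-- Real irreducible characters of odd degree. -/
def RO (A : Type u) [Group A] : Type u :=
  {χ : IrrCharacter A // IsReal (χ : A → ℂ) ∧ Odd (charDegree (χ : A → ℂ))}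

instance (A : Type u) [Group A] [Finite A] : Finite (RO A) :=
  haveI := finite_irrCharacter (G := A); Subtype.finite

/-- All characters of odd degree are real. -/
def AllReal (A : Type u) [Group A] : Prop :=
  ∀ χ : IrrCharacter A, Odd (charDegree (χ : A → ℂ)) → IsReal (χ : A → ℂ)

variable {G : Type u} [Group G] [Fintype G]

section Parity

theorem fixed_odd_invol {ι : Type*} [Fintype ι] (σ : ι → ι) (hσ : ∀ i, σ (σ i) = i) (F : ι → ℕ)
    (hF : ∀ i, F (σ i) = F i) (h : Odd (∑ i, F i)) : ∃ i, σ i = i ∧ Odd (F i) := by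
  classical
  by_contra hcon
  push Not at hcon
  rw [← ZMod.natCast_eq_one_iff_odd] at h
  rw [Nat.cast_sum] at h
  refine zero_ne_one (α := ZMod 2) (Eq.trans ?_ h)
  refine (Finset.sum_involution (fun i _ => σ i) (fun i _ => ?_) (fun i _ hne he => hne ?_)
    (fun i _ => Finset.mem_univ _) (fun i _ => hσ i)).symm
  · rw [hF]; exact CharTwo.add_self_eq_zero _
  · exact (ZMod.natCast_eq_zero_iff_even).2 (Nat.not_odd_iff_even.1 (hcon i he))

/-- Multiplicities of the irreducible constituents. -/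
theorem exists_mult {Ψ : G → ℂ} (hΨ : IsCharacter G Ψ) :
    ∃ m : IrrCharacter G → ℕ, (∀ β : IrrCharacter G, classInner Ψ (β : G → ℂ) = m β) ∧
      ∀ [Fintype (IrrCharacter G)], charDegree Ψ = ∑ β : IrrCharacter G, m β * charDegree (β : G → ℂ) := by
  choose m hm using fun β : IrrCharacter G => classInner_characters_nat hΨ (isCharacter_of_irr β.2)
  refine ⟨m, hm, fun {_} => ?_⟩
  have h := congrFun (classFun_expand (isClassFunction hΨ)) 1
  rw [apply_one hΨ, Finset.sum_apply] at h
  have h2 : (charDegree Ψ : ℂ) = ((∑ β, m β * charDegree (β : G → ℂ) : ℕ) : ℂ) := by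
    rw [h, Nat.cast_sum]
    refine Finset.sum_congr rfl fun β _ => ?_
    rw [Pi.smul_apply, smul_eq_mul, hm, apply_one (isCharacter_of_irr β.2), Nat.cast_mul]
  exact_mod_cast h2

theorem exists_odd_constituent {Ψ : G → ℂ} (hΨ : IsCharacter G Ψ) (hd : Odd (charDegree Ψ)) :
    ∃ β : IrrCharacter G, classInner Ψ (β : G → ℂ) ≠ 0 ∧ Odd (charDegree (β : G → ℂ)) := by
  classical
  haveI : Fintype (IrrCharacter G) := @Fintype.ofFinite _ finite_irrCharacter
  obtain ⟨m, hm, hdeg⟩ := exists_mult hΨ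
  rw [hdeg] at hd
  obtain ⟨β, -, hβ⟩ := fixed_odd_invol id (fun _ => rfl) _ (fun _ => rfl) hd
  rw [Nat.odd_mul] at hβ
  refine ⟨β, ?_, hβ.2⟩
  rw [hm, Nat.cast_ne_zero]
  exact hβ.1.pos.ne'

theorem exists_real_constituent {Ψ : G → ℂ} (hΨ : IsCharacter G Ψ) (hr : IsReal Ψ) (hd : Odd (charDegree Ψ)) :
    ∃ β : IrrCharacter G, classInner Ψ (β : G → ℂ) ≠ 0 ∧ IsReal (β : G → ℂ) ∧ Odd (charDegree (β : G → ℂ)) := by
  classical
  haveI : Fintype (IrrCharacter G) := @Fintype.ofFinite _ finite_irrCharacter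
  obtain ⟨m, hm, hdeg⟩ := exists_mult hΨ
  rw [hdeg] at hd
  let σ : IrrCharacter G → IrrCharacter G := fun β => ⟨fun g => conj ((β : G → ℂ) g), BrauerInd.isIrr_star β.2⟩
  have hmσ : ∀ β, m (σ β) = m β := by
    intro β
    have h1 : classInner Ψ (σ β : G → ℂ) = conj (classInner Ψ (β : G → ℂ)) := by
      simp only [σ, classInner_eq, map_mul, map_inv₀, map_natCast, map_sum, Complex.conj_conj]
      congr 1
      refine Finset.sum_congr rfl fun g _ => ?_
      rw [Complex.conj_eq_iff_im.2 (hr g)]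
    rw [hm, hm, Complex.conj_natCast] at h1
    exact_mod_cast h1
  have hdσ : ∀ β, charDegree (σ β : G → ℂ) = charDegree (β : G → ℂ) := fun β => by
    simp [σ, charDegree]
  obtain ⟨β, hfix, hβ⟩ := fixed_odd_invol σ
    (fun β => Subtype.ext (funext fun g => Complex.conj_conj _)) _ (fun β => by rw [hmσ, hdσ]) hd
  rw [Nat.odd_mul] at hβ
  refine ⟨β, ?_, isReal_iff.2 (congrArg Subtype.val hfix), hβ.2⟩
  rw [hm, Nat.cast_ne_zero]
  exact hβ.1.pos.ne'

end Parity

section Fixed

variable {L : Subgroup G} [L.Normal] [Fintype L]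

/-- A `2`-group fixes some constituent of the restriction of a character of odd degree. -/
theorem exists_fixed_constituent {P : Subgroup G} (hP : IsPGroup 2 P) {χ : G → ℂ} (hχ : IsCharacter G χ)
    (hd : Odd (charDegree χ)) :
    ∃ θ : IrrCharacter L, classInner (fun l : L => χ l) (θ : L → ℂ) ≠ 0 ∧
      ∀ x ∈ P, conjFun x (θ : L → ℂ) = (θ : L → ℂ) := by
  classical
  haveI : Fact (Nat.Prime 2) := ⟨Nat.prime_two⟩
  haveI : Fintype (IrrCharacter L) := @Fintype.ofFinite _ finite_irrCharacter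
  obtain ⟨m, hm, hdeg⟩ := exists_mult (CharBasics.isCharacter_restrict hχ L)
  have hd' : charDegree (fun l : L => χ l) = charDegree χ := by simp [charDegree]
  rw [← hd', hdeg, ← ZMod.natCast_eq_one_iff_odd, Nat.cast_sum] at hd
  letI : MulAction P (IrrCharacter L) :=
    { smul := fun x θ => ⟨conjFun ((x : G))⁻¹ (θ : L → ℂ), isIrrCharacter_conjFun _ θ.2⟩
      one_smul := fun θ => Subtype.ext (funext fun l => by
        show conjFun ((1 : P) : G)⁻¹ (θ : L → ℂ) l = _
        rw [conjFun_apply]; exact congrArg _ (Subtype.ext (by simp)))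
      mul_smul := fun x y θ => Subtype.ext (funext fun l => by
        show conjFun ((x * y : P) : G)⁻¹ (θ : L → ℂ) l = conjFun ((x : G))⁻¹ (conjFun ((y : G))⁻¹ (θ : L → ℂ)) l
        rw [conjFun_apply, conjFun_apply, conjFun_apply]; exact congrArg _ (Subtype.ext (by simp [mul_assoc]))) }
  have hsm : ∀ (x : P) (θ : IrrCharacter L), ((x • θ : IrrCharacter L) : L → ℂ) = conjFun ((x : G))⁻¹ (θ : L → ℂ) :=
    fun _ _ => rfl
  rw [PairAlg.sum_eq_sum_fixed (p := 2) hP _ ?_] at hd
  · obtain ⟨θ, hθ, hne⟩ := Finset.exists_ne_zero_of_sum_ne_zero (by rw [hd]; exact one_ne_zero)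
    refine ⟨θ, ?_, fun x hx => ?_⟩
    · rw [hm, Nat.cast_ne_zero]
      intro h0
      rw [h0, zero_mul, Nat.cast_zero] at hne
      exact hne rfl
    · have h := congrArg Subtype.val ((Finset.mem_filter.1 hθ).2 (⟨x, hx⟩ : P)⁻¹)
      simpa [hsm] using h
  · intro x θ
    congr 1
    have h1 : classInner (fun l : L => χ l) ((x • θ : IrrCharacter L) : L → ℂ) =
        classInner (fun l : L => χ l) (θ : L → ℂ) := by
      rw [hsm]
      conv_lhs => rw [← conjFun_restrict (isClassFunction hχ) ((x : G))⁻¹]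
      rw [classInner_conjFun]
    rw [hm, hm, Nat.cast_inj] at h1
    rw [h1]
    congr 1
    simp only [charDegree, hsm, conjFun_apply]
    refine congrArg (fun z : ℂ => ⌊z.re⌋₊) (congrArg _ (Subtype.ext ?_))
    simp

end Fixed

/-- Two functions fixed by a Sylow subgroup and conjugate are conjugate in its normalizer. -/
theorem exists_normalizer_conj {L : Subgroup G} [L.Normal] {p : ℕ} [Fact p.Prime] (P : Sylow p G) {θ φ : L → ℂ}
    (hθ : ∀ x ∈ (P : Subgroup G), conjFun x θ = θ) (hφ : ∀ x ∈ (P : Subgroup G), conjFun x φ = φ)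
    {g : G} (hg : φ = conjFun g θ) :
    ∃ n ∈ Subgroup.normalizer ((P : Subgroup G) : Set G), φ = conjFun n θ := by
  have hmul : ∀ (a b : G) (f : L → ℂ), conjFun a (conjFun b f) = conjFun (b * a) f := by
    intro a b f
    funext l
    simp only [conjFun_apply]
    exact congrArg f (Subtype.ext (by simp [mul_assoc]))
  have hPT : (P : Subgroup G) ≤ inertia θ := fun x hx => hθ x hx
  have hPT' : ((g • P : Sylow p G) : Subgroup G) ≤ inertia θ := by
    intro y hy
    have hx := Transfer.mem_smul_sylow_iff.1 hy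
    show conjFun y θ = θ
    rw [show y = g * (g⁻¹ * y * g) * g⁻¹ by group, ← hmul, ← hmul, ← hg, hφ _ hx, hg, hmul, mul_inv_cancel]
    funext l
    rw [conjFun_apply]
    exact congrArg θ (Subtype.ext (by simp))
  obtain ⟨t, ht⟩ := MulAction.exists_smul_eq (inertia θ) ((g • P).subtype hPT') (P.subtype hPT)
  simp_rw [Sylow.smul_subtype, Subgroup.smul_def] at ht
  refine ⟨(t : G) * g, ?_, ?_⟩
  · exact Sylow.smul_eq_iff_mem_normalizer.1 (by rw [mul_smul]; exact Sylow.subtype_injective ht)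
  · rw [← hmul, mem_inertia.1 t.2, hg]

section Linear

/-- A homomorphism as a function is irreducible. -/
theorem isIrr_hom {A : Type*} [Group A] [Finite A] (μ : A →* ℂ) : IsIrrCharacter A (fun a => μ a) := by
  have h := isIrrCharacter_linear_mul (G := A) CharBasics.isIrrCharacter_one μ
  simpa only [mul_one] using h

theorem hom_norm {A : Type*} [Group A] [Finite A] (μ : A →* ℂ) (a : A) : ‖μ a‖ = 1 :=
  Complex.norm_eq_one_of_pow_eq_one (by rw [← map_pow, pow_card_eq_one', map_one]) Nat.card_pos.ne'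

theorem hom_real_iff {A : Type*} [Group A] [Finite A] (μ : A →* ℂ) :
    IsReal (fun a => μ a) ↔ ∀ a, μ a * μ a = 1 := by
  refine ⟨fun h a => ?_, fun h a => ?_⟩
  · have h1 := RCLike.mul_conj (μ a)
    rw [Complex.conj_eq_iff_im.2 (h a), hom_norm] at h1
    simpa using h1
  · rcases mul_self_eq_one_iff.1 (h a) with e | e <;> simp [e]

variable {L : Subgroup G} [L.Normal] [Fintype L]

theorem restrict_scalar_of_mult {ψ : G → ℂ} (hψ : IsIrrCharacter G ψ) {θ : L → ℂ} (hθ : IsIrrCharacter L θ)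
    (hθ1 : θ 1 = 1) {c : ℂ} (h : (fun l : L => ψ l) = c • θ) (l : L) : ψ l = θ l * ψ 1 := by
  have h1 := congrFun h 1
  have h2 := congrFun h l
  simp only [Pi.smul_apply, smul_eq_mul, Subgroup.coe_one, hθ1, mul_one] at h1 h2
  rw [h2, h1, mul_comm]

/-- The determinant extends the power of a linear character. -/
theorem exists_det_hom {ψ : G → ℂ} (hψ : IsIrrCharacter G ψ) (θ : L →* ℂ) (h : ∀ l : L, ψ l = θ l * ψ 1) :
    ∃ μ : G →* ℂ, (∀ l : L, μ l = θ l ^ charDegree ψ) ∧ (IsReal ψ → ∀ g, μ g * μ g = 1) := by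
  classical
  obtain ⟨μ, hμ⟩ := exists_detHom hψ
  have hμ' : ∀ g, μ g = detChar ψ g := fun g => (congrFun hμ g).symm
  refine ⟨μ, fun l => ?_, fun hr g => ?_⟩
  · obtain ⟨lam, hl, hv⟩ := exists_eigen (isCharacter_of_irr hψ) (l : G)
    rw [hμ', DetTwist.detChar_eq_prod hψ lam hv]
    have hn := hom_norm θ l
    have hθne : θ l ≠ 0 := fun h0 => by simp [h0] at hn
    have h1 : ∀ i, lam i * (θ l)⁻¹ = 1 := by
      refine eq_one_of_sum_eq_card _ (fun i => ?_) ?_
      · rw [norm_mul, norm_inv, hn, Complex.norm_eq_one_of_pow_eq_one (hl i) (orderOf_pos _).ne', inv_one, one_mul]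
      · rw [← Finset.sum_mul, Fintype.card_fin]
        have := hv 1
        simp only [pow_one] at this
        rw [← this, h, apply_one (isCharacter_of_irr hψ)]
        field_simp
    rw [Finset.prod_congr rfl fun i _ => (mul_inv_eq_one₀ hθne).1 (h1 i), Finset.prod_const, Finset.card_univ,
      Fintype.card_fin]
  · obtain ⟨lam, hl, hv⟩ := exists_eigen (isCharacter_of_irr hψ) g
    have hv' : ∀ j : ℕ, ψ (g ^ j) = ∑ i, (conj (lam i)) ^ j := fun j => by
      rw [← Complex.conj_eq_iff_im.2 (hr (g ^ j)), hv, map_sum]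
      exact Finset.sum_congr rfl fun i _ => map_pow _ _ _
    have h1 := DetTwist.detChar_eq_prod hψ lam hv
    have h2 := DetTwist.detChar_eq_prod hψ _ hv'
    rw [← hμ'] at h1 h2
    rw [← map_prod, ← h1] at h2
    have h3 := RCLike.mul_conj (μ g)
    rw [← h2, hom_norm] at h3
    simpa using h3

/-- Real, odd degree, over a linear character: a real extension exists. -/
theorem exists_real_ext {ψ : G → ℂ} (hψ : IsIrrCharacter G ψ) (hr : IsReal ψ) (hd : Odd (charDegree ψ))
    (θ : L →* ℂ) (hθ : ∀ l, θ l * θ l = 1) (h : ∀ l : L, ψ l = θ l * ψ 1) :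
    ∃ μ : G →* ℂ, (∀ g, μ g * μ g = 1) ∧ ∀ l : L, μ l = θ l := by
  obtain ⟨μ, hμ, hμr⟩ := exists_det_hom hψ θ h
  refine ⟨μ, hμr hr, fun l => ?_⟩
  obtain ⟨k, hk⟩ := hd
  rw [hμ, hk, pow_succ, pow_mul, pow_two, hθ, one_pow, one_mul]

end Linear

end CfsgLib.RealOdd
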