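import Cfsg.Agent.CharBasics.RealOddCount

/-!
# The induction: real characters of odd degree of a solvable group
-/

set_option autoImplicit false
set_option linter.unusedSectionVars false
set_option linter.style.haveILetI false

namespace CfsgLib.RealOdd

open Cfsg CfsgLib.CharBasics CfsgLib.Clifford
open scoped ComplexConjugate

universe u

noncomputable local instance instFintypeSubgroupRealOdd {G : Type u} [Group G] [Fintype G] (K : Subgroup G) :
    Fintype K := Fintype.ofFinite K

noncomputable local instance instFintypeQuotRealOdd {G : Type u} [Group G] [Fintype G] (K : Subgroup G) :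
    Fintype (G ⧸ K) := Fintype.ofFinite _

/-- The statement for one group. -/
def Good (G : Type u) [Group G] : Prop :=
  ∀ P : Sylow 2 G,
    Nat.card (RO G) = Nat.card (RO (Subgroup.normalizer ((P : Subgroup G) : Set G))) ∧
      (AllReal G ↔ Elem (P : Subgroup G) ∧ Subgroup.normalizer ((P : Subgroup G) : Set G) = (P : Subgroup G))

variable {G : Type u} [Group G] [Fintype G]

instance {A : Type u} [Group A] [Finite A] : Finite (A →* ℂ) :=
  haveI := finite_irrCharacter (G := A)
  Finite.of_injective (fun μ : A →* ℂ => (⟨fun a => μ a, isIrr_hom μ⟩ : IrrCharacter A))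
    fun _ _ h => MonoidHom.ext (congrFun (congrArg Subtype.val h))

theorem exists_nhom {B : Type u} [Group B] [Fintype B] {p : ℕ} [Fact p.Prime] (f : G →* B)
    (hf : Function.Surjective f) (P : Sylow p G) :
    ∃ g : ↥(Subgroup.normalizer ((P : Subgroup G) : Set G)) →*
        ↥(Subgroup.normalizer (((P : Subgroup G).map f : Subgroup B) : Set B)),
      Function.Surjective g ∧ ∀ x, (g x : B) = f x := by
  have hmem : ∀ x : Subgroup.normalizer ((P : Subgroup G) : Set G),
      (f.comp (Subgroup.normalizer ((P : Subgroup G) : Set G)).subtype) x ∈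
        Subgroup.normalizer (((P : Subgroup G).map f : Subgroup B) : Set B) :=
    fun x => Subgroup.le_normalizer_map f ⟨(x : G), x.2, rfl⟩
  refine ⟨(f.comp (Subgroup.normalizer ((P : Subgroup G) : Set G)).subtype).codRestrict _ hmem, fun y => ?_,
    fun x => rfl⟩
  obtain ⟨x, hx, hxy⟩ := exists_normalizer_preimage f hf P y.2
  exact ⟨⟨x, hx⟩, Subtype.ext hxy⟩

theorem index_inertia_odd {P : Sylow 2 G} {T : Subgroup G} (h : (P : Subgroup G) ≤ T) : Odd T.index := by
  haveI : Fact (Nat.Prime 2) := ⟨Nat.prime_two⟩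
  exact (Nat.odd_iff.2 (Nat.two_dvd_ne_zero.1 P.not_dvd_index)).of_dvd_nat (Subgroup.index_dvd_of_le h)

theorem hom_prod_conj (L : Subgroup G) [L.Normal] (hab : IsMulCommutative L) (θ : L →* ℂ) (P : Subgroup G) :
    ∃ θ' : L →* ℂ, (∀ x ∈ P, conjFun x (fun l => θ' l) = fun l => θ' l) ∧
      (∀ l : L, (∀ x ∈ P, θ ((MulAut.conjNormal x : MulAut L) l) = θ l) → θ' l = θ l ^ Nat.card P) ∧
      ∀ l : L, ∃ c : L, θ' l = θ c ∧ ∀ x ∈ P, x * (c : G) = (c : G) * x := by
  classical
  haveI := hab
  letI : CommGroup L := { (inferInstance : Group L) with mul_comm := fun a b => mul_comm' a b }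
  set T : L →* L := ∏ x : P, ((MulAut.conjNormal (x : G) : MulAut L)).toMonoidHom with hT
  have hTa : ∀ l : L, T l = ∏ x : P, (MulAut.conjNormal (x : G) : MulAut L) l := fun l => by
    rw [hT, MonoidHom.finsetProd_apply]; rfl
  have hinv : ∀ (y : G) (hy : y ∈ P) (l : L), T ((MulAut.conjNormal y : MulAut L) l) = T l := by
    intro y hy l
    rw [hTa, hTa]
    refine Fintype.prod_equiv (Equiv.mulRight (⟨y, hy⟩ : P)) _ _ fun x => ?_
    rw [Equiv.coe_mulRight, Subgroup.coe_mul, map_mul]
    rfl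
  refine ⟨θ.comp T, fun x hx => funext fun l => ?_, fun l hl => ?_, fun l => ⟨T l, rfl, fun y hy => ?_⟩⟩
  · show θ (T ⟨x * l * x⁻¹, _⟩) = θ (T l)
    rw [← hinv x hx l]
    refine congrArg θ (congrArg T (Subtype.ext ?_))
    rw [MulAut.conjNormal_apply]
  · show θ (T l) = _
    rw [hTa, map_prod, Finset.prod_congr rfl (g := fun _ => θ l) fun x _ => ?_, Finset.prod_const, Finset.card_univ,
      Nat.card_eq_fintype_card]
    exact hl x x.2
  · have h1 : (MulAut.conjNormal y : MulAut L) (T l) = T l := by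
      rw [hTa, map_prod]
      refine Fintype.prod_equiv (Equiv.mulLeft (⟨y, hy⟩ : P)) _ _ fun x => ?_
      rw [Equiv.coe_mulLeft, Subgroup.coe_mul, map_mul]
      rfl
    have h2 := congrArg Subtype.val h1
    rw [MulAut.conjNormal_apply] at h2
    exact mul_inv_eq_iff_eq_mul.1 h2

theorem eq_one_of_pows {z : ℂ} {a b : ℕ} (hab : a.Coprime b) (ha : z ^ a = 1) (hb : z ^ b = 1) : z = 1 := by
  have := pow_gcd_eq_one.2 ⟨ha, hb⟩
  rwa [hab.gcd_eq_one, pow_one] at this

theorem exists_hom_of_irr {L : Subgroup G} (hab : IsMulCommutative L) {θ : L → ℂ} (h : IsIrrCharacter L θ) :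
    ∃ μ : L →* ℂ, (fun l => μ l) = θ := by
  haveI := hab
  exact ⟨{ toFun := θ, map_one' := (irr_comm_hom h).1, map_mul' := (irr_comm_hom h).2 }, rfl⟩

theorem step_odd (L : Subgroup G) [L.Normal] (hab : IsMulCommutative L) (hL : Odd (Nat.card L))
    (ih : Good (G ⧸ L)) : Good G := by
  classical
  haveI : Fact (Nat.Prime 2) := ⟨Nat.prime_two⟩
  intro P
  have hπ := QuotientGroup.mk'_surjective L
  have hQ : ((P.mapSurjective hπ : Sylow 2 (G ⧸ L)) : Subgroup (G ⧸ L)) = (P : Subgroup G).map (QuotientGroup.mk' L) :=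
    rfl
  obtain ⟨hcnt, hiff⟩ := ih (P.mapSurjective hπ)
  rw [hQ] at hcnt hiff
  obtain ⟨g, hg, hgx⟩ := exists_nhom (QuotientGroup.mk' L) hπ P
  have hPL : (P : Subgroup G) ⊓ L = ⊥ := by
    refine Subgroup.inf_eq_bot_of_coprime ?_
    obtain ⟨k, hk⟩ := IsPGroup.iff_card.1 P.2
    rw [hk]
    exact (Nat.coprime_two_left.2 hL).pow_left k
  have hcomm : ∀ c ∈ L, c ∈ Subgroup.normalizer ((P : Subgroup G) : Set G) → ∀ x ∈ (P : Subgroup G), x * c = c * x := by
    intro c hc hcN x hx
    have h1 : c * x * c⁻¹ * x⁻¹ ∈ (P : Subgroup G) ⊓ L := Subgroup.mem_inf.2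
      ⟨(P : Subgroup G).mul_mem ((Subgroup.mem_normalizer_iff.1 hcN x).1 hx) ((P : Subgroup G).inv_mem hx), by
        have := L.mul_mem hc ((inferInstance : L.Normal).conj_mem c⁻¹ (L.inv_mem hc) x)
        simpa [mul_assoc] using this⟩
    rw [hPL, Subgroup.mem_bot] at h1
    calc x * c = (c * x * c⁻¹ * x⁻¹)⁻¹ * (c * x) := by group
      _ = c * x := by rw [h1, inv_one, one_mul]
  have hgk : Odd (Nat.card g.ker) := by
    refine hL.of_dvd_nat ?_
    rw [← Subgroup.card_map_of_injective (Subgroup.normalizer ((P : Subgroup G) : Set G)).subtype_injective]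
    refine Subgroup.card_dvd_of_le ?_
    rintro _ ⟨x, hx, rfl⟩
    have h1 := hgx x
    rw [MonoidHom.mem_ker.1 hx] at h1
    exact (QuotientGroup.eq_one_iff _).1 h1.symm
  set σ := (QuotientGroup.mk' L).subgroupMap (P : Subgroup G) with hσdef
  have hσ : Function.Surjective σ := (QuotientGroup.mk' L).subgroupMap_surjective _
  have hσi : ∀ x, σ x = 1 → x = 1 := fun x hx => Subtype.ext (by
    have h1 : (x : G) ∈ (P : Subgroup G) ⊓ L :=
      Subgroup.mem_inf.2 ⟨x.2, (QuotientGroup.eq_one_iff _).1 (congrArg Subtype.val hx)⟩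
    rw [hPL, Subgroup.mem_bot] at h1
    exact h1)
  refine ⟨?_, fun hall => ?_, fun ⟨helem, hNP⟩ => ?_⟩
  · rw [card_RO_eq_of_odd_ker (QuotientGroup.mk' L) hπ (by rwa [QuotientGroup.ker_mk']), hcnt,
      card_RO_eq_of_odd_ker g hg hgk]
  · obtain ⟨helemQ, hNQ⟩ := hiff.1 (allReal_of_surjective _ hπ hall)
    refine ⟨fun ν x => ?_, le_antisymm (fun x hx => ?_) Subgroup.le_normalizer⟩
    · obtain ⟨ω, hω⟩ := hom_descend σ hσ ν fun a ha => by rw [hσi a ha, map_one]
      rw [← hω]
      exact helemQ ω _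
    obtain ⟨q, hq, hqx⟩ : QuotientGroup.mk' L x ∈ (P : Subgroup G).map (QuotientGroup.mk' L) := by
      rw [← hNQ, ← hgx ⟨x, hx⟩]
      exact (g ⟨x, hx⟩).2
    have hc : q⁻¹ * x ∈ L := QuotientGroup.eq.1 hqx
    have hcN : q⁻¹ * x ∈ Subgroup.normalizer ((P : Subgroup G) : Set G) :=
      Subgroup.mul_mem _ (Subgroup.inv_mem _ (Subgroup.le_normalizer hq)) hx
    suffices h1 : (⟨q⁻¹ * x, hc⟩ : L) = 1 by
      have := congrArg Subtype.val h1
      simp only [Subgroup.coe_one, inv_mul_eq_one] at this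
      exact this ▸ hq
    by_contra hne
    haveI := hab
    letI : CommGroup L := { (inferInstance : Group L) with mul_comm := fun a b => mul_comm' a b }
    haveI : NeZero (Monoid.exponent L : ℂ) := ⟨Nat.cast_ne_zero.2 Monoid.exponent_ne_zero_of_finite⟩
    obtain ⟨φ, hφ⟩ := CommGroup.exists_apply_ne_one_of_hasEnoughRootsOfUnity L ℂ hne
    obtain ⟨θ', hfix, hval, -⟩ := hom_prod_conj L hab ((Units.coeHom ℂ).comp φ) (P : Subgroup G)
    have hθc : θ' ⟨q⁻¹ * x, hc⟩ ≠ 1 := by
      rw [hval _ fun y hy => congrArg _ (Subtype.ext (by rw [MulAut.conjNormal_apply]; exact mul_inv_eq_iff_eq_mul.2 (hcomm _ hc hcN y hy)))]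
      intro h1
      refine hφ (Units.ext ?_)
      obtain ⟨k, hk⟩ := IsPGroup.iff_card.1 P.2
      refine eq_one_of_pows ((Nat.coprime_two_left.2 hL).pow_left k) (hk ▸ h1) ?_
      show ((φ _ : ℂˣ) : ℂ) ^ _ = 1
      rw [← Units.val_pow_eq_pow_val, ← map_pow, pow_card_eq_one', map_one, Units.val_one]
    set M := (P : Subgroup G) ⊔ L with hM
    have hPT : M ≤ inertia (fun l => θ' l) := by
      refine sup_le (fun y hy => hfix y hy) (fun l hl => funext fun m => ?_)
      rw [conjFun_apply]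
      refine congrArg θ' (Subtype.ext ?_)
      show l * (m : G) * l⁻¹ = m
      have := congrArg Subtype.val (mul_comm' (⟨l, hl⟩ : L) m)
      rw [Subgroup.coe_mul, Subgroup.coe_mul] at this
      rw [this, mul_inv_cancel_right]
    haveI : (L.subgroupOf M).Normal := inferInstance
    let e : L.subgroupOf M ≃* L := Subgroup.subgroupOfEquivOfLe le_sup_right
    obtain ⟨μ, hμ, -⟩ := exists_coprime_linearExtension (θ'.comp e.toMonoidHom)
      (fun y n => congrFun (hPT y.2) (e n)) (o := Nat.card L)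
      (fun n => by rw [← map_pow, MonoidHom.comp_apply, map_pow, pow_card_eq_one', map_one]) (by
        obtain ⟨k, hk⟩ := IsPGroup.iff_card.1 P.2
        show Nat.Coprime (L.relIndex M) _
        rw [hM, Subgroup.relIndex_sup_right]
        exact ((Nat.coprime_two_left.2 hL).pow_left k).coprime_dvd_left (hk ▸ Subgroup.relIndex_dvd_card L _))
    have hindc := isCharacter_indFun M (isCharacter_of_irr (isIrr_hom μ))
    obtain ⟨β, hβ, hβd⟩ := exists_odd_constituent hindc (by
      rw [charDegree_indFun M (isCharacter_of_irr (isIrr_hom μ)), show charDegree (fun a : M => μ a) = 1 by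
        simp [charDegree], mul_one]
      exact index_inertia_odd (le_sup_left : (P : Subgroup G) ≤ M))
    rw [classInner_indFun M _ (isClassFunction (isCharacter_of_irr β.2)), classInner_comm, ne_eq, map_eq_zero] at hβ
    have h2 := inner_comp_ne (Subgroup.inclusion (le_sup_right : L ≤ M))
      (CharBasics.isCharacter_restrict (isCharacter_of_irr β.2) M) μ hβ
    have hmu : ∀ l : L, μ (Subgroup.inclusion (le_sup_right : L ≤ M) l) = θ' l := fun l => hμ (e.symm l)
    simp only [hmu] at h2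
    have h3 : (fun d : L => (β : G → ℂ) ((Subgroup.inclusion (le_sup_right : L ≤ M) d : M) : G)) =
        (β : G → ℂ) 1 • fun _ : L => (1 : ℂ) := funext fun d => by
      rw [Pi.smul_apply, smul_eq_mul, mul_one]
      exact trivial_on_odd L hL ⟨β, hall β hβd, hβd⟩ d d.2
    rw [h3, classInner_smul_left] at h2
    refine hθc ?_
    by_contra hh
    exact (mul_ne_zero_iff.1 h2).2 (classInner_ne CharBasics.isIrrCharacter_one (isIrr_hom θ') fun he =>
      hh (congrFun he ⟨q⁻¹ * x, hc⟩).symm)
  · intro χ hd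
    have hQall : AllReal (G ⧸ L) := by
      refine hiff.2 ⟨elem_of_surjective σ hσ helem, le_antisymm (fun y hy => ?_) Subgroup.le_normalizer⟩
      obtain ⟨x, hx⟩ := hg ⟨y, hy⟩
      exact ⟨(x : G), hNP.le x.2, by rw [← hgx, hx]⟩
    obtain ⟨θ, hne, hfix⟩ := exists_fixed_constituent (L := L) P.2 (isCharacter_of_irr χ.2) hd
    obtain ⟨μ, hμ⟩ := exists_hom_of_irr hab θ.2
    obtain ⟨θ', -, hval, hc⟩ := hom_prod_conj L hab μ (P : Subgroup G)
    have hone : ∀ l, μ l = 1 := by
      intro l
      obtain ⟨k, hk⟩ := IsPGroup.iff_card.1 P.2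
      refine eq_one_of_pows ((Nat.coprime_two_left.2 hL).pow_left k) ?_
        (by rw [← map_pow, pow_card_eq_one', map_one])
      obtain ⟨c, hc1, hc2⟩ := hc l
      have hcP : (c : G) ∈ (P : Subgroup G) ⊓ L := by
        refine Subgroup.mem_inf.2 ⟨hNP.le (Subgroup.mem_normalizer_iff.2 fun y => ?_), c.2⟩
        constructor
        · intro hy
          rw [← hc2 y hy, mul_inv_cancel_right]; exact hy
        · intro hy
          have h1 := hc2 _ hy
          rwa [show y = (c : G) * y * (c : G)⁻¹ from mul_left_cancel (a := (c : G)) (by rw [← h1]; group)]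
      rw [hPL, Subgroup.mem_bot] at hcP
      rw [show c = 1 from Subtype.ext hcP, map_one] at hc1
      have hprod : θ' l = μ l ^ Nat.card (P : Subgroup G) := by
        refine hval l fun y hy => ?_
        have h1 := congrFun (hfix y hy) l
        rw [← hμ] at h1
        refine Eq.trans (congrArg μ (Subtype.ext ?_)) h1
        rw [MulAut.conjNormal_apply]
      rw [← hk, ← hprod, hc1]
    have hθ1 : (θ : L → ℂ) = fun _ => 1 := by rw [← hμ]; exact funext hone
    rw [hθ1] at hne
    have h := restrict_eq_smul_of_invariant χ.2 (CharBasics.isIrrCharacter_one (G := L)) (fun y => rfl) hne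
    exact real_of_allReal (QuotientGroup.mk' L) hπ 1 (fun a => by simp) hQall χ.2 hd fun a ha => by
      rw [MonoidHom.one_apply]
      exact restrict_scalar_of_mult χ.2 (CharBasics.isIrrCharacter_one (G := L)) rfl h ⟨a, (QuotientGroup.eq_one_iff a).1 ha⟩

theorem map_inv_hom_real {A : Type u} [Group A] [Fintype A] {θ : A →* ℂ} (h : ∀ a, θ a * θ a = 1) :
    IsReal (fun a => θ a) := (hom_real_iff θ).2 h

theorem classInner_star {A : Type u} [Group A] [Fintype A] (f h : A → ℂ) :
    classInner (fun a => conj (f a)) (fun a => conj (h a)) = conj (classInner f h) := by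
  simp [classInner_eq, map_mul, map_sum]

/-- Above a real linear character fixed by `P`: the local map to the normalizer of the image of `P`. -/
theorem card_local (P : Sylow 2 G) (L : Subgroup G) [L.Normal] (hLP : L ≤ (P : Subgroup G))
    (θ : L →* ℂ) (hreal : ∀ l, θ l * θ l = 1) (hfix : ∀ x ∈ (P : Subgroup G), conjFun x (fun l => θ l) = fun l => θ l)
    (ih : ∀ T : Subgroup G, Good (T ⧸ L.subgroupOf T)) :
    Nat.card {χ : RO G // classInner (fun l : L => (χ.1 : G → ℂ) l) (fun l => θ l) ≠ 0} =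
      Nat.card {ψ : RO (Subgroup.normalizer ((P : Subgroup G) : Set G)) //
        classInner (fun l : L => (ψ.1 : Subgroup.normalizer ((P : Subgroup G) : Set G) → ℂ)
          ⟨(l : G), Subgroup.le_normalizer (hLP l.2)⟩) (fun l => θ l) ≠ 0} := by
  classical
  haveI : Fact (Nat.Prime 2) := ⟨Nat.prime_two⟩
  obtain ⟨N, hN⟩ : ∃ N, N = Subgroup.normalizer ((P : Subgroup G) : Set G) := ⟨_, rfl⟩
  subst hN
  set T := inertia (fun l : L => θ l) with hT
  have hPT : (P : Subgroup G) ≤ T := fun x hx => hfix x hx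
  have hLT : L ≤ T := hLP.trans hPT
  have hLN : L ≤ Subgroup.normalizer ((P : Subgroup G) : Set G) := hLP.trans Subgroup.le_normalizer
  let N := Subgroup.normalizer ((P : Subgroup G) : Set G)
  let eN : L.subgroupOf (Subgroup.normalizer ((P : Subgroup G) : Set G)) ≃* L := Subgroup.subgroupOfEquivOfLe hLN
  set θN : L.subgroupOf (Subgroup.normalizer ((P : Subgroup G) : Set G)) →* ℂ := θ.comp eN.toMonoidHom with hθN
  set T' := inertia (fun l => θN l) with hT'
  have hmemT : ∀ n : Subgroup.normalizer ((P : Subgroup G) : Set G), n ∈ T' ↔ (n : G) ∈ T := by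
    intro n
    rw [hT', hT, mem_inertia, mem_inertia]
    constructor
    · intro h
      funext l
      exact (congrFun h (eN.symm l)).trans (congrArg θ (eN.apply_symm_apply l))
    · intro h
      funext m
      exact congrFun h (eN m)
  have hreal' : ∀ l, θN l * θN l = 1 := fun l => hreal (eN l)
  have hLT' : L.subgroupOf (Subgroup.normalizer ((P : Subgroup G) : Set G)) ≤ T' :=
    fun n hn => (hmemT n).2 (hLT hn)
  have hodd' : Odd T'.index := by
    refine Odd.of_dvd_nat ?_ (Subgroup.index_dvd_of_le (H := (P : Subgroup G).subgroupOf _) fun n hn => (hmemT n).2 (hPT hn))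
    exact (Nat.odd_iff.2 (Nat.two_dvd_ne_zero.1 P.not_dvd_index)).of_dvd_nat
      (Subgroup.relIndex_dvd_index_of_le Subgroup.le_normalizer)
  rw [card_over θ T rfl hLT hreal (index_inertia_odd hPT)]
  have hR : Nat.card {ψ : RO (Subgroup.normalizer ((P : Subgroup G) : Set G)) //
        classInner (fun l : L => (ψ.1 : Subgroup.normalizer ((P : Subgroup G) : Set G) → ℂ)
          ⟨(l : G), Subgroup.le_normalizer (hLP l.2)⟩) (fun l => θ l) ≠ 0} =
      Nat.card {ψ : RO (Subgroup.normalizer ((P : Subgroup G) : Set G)) //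
        classInner (fun m : L.subgroupOf (Subgroup.normalizer ((P : Subgroup G) : Set G)) =>
          (ψ.1 : Subgroup.normalizer ((P : Subgroup G) : Set G) → ℂ) m) (fun m => θN m) ≠ 0} := by
    refine Nat.card_congr (Equiv.subtypeEquivRight fun ψ => ?_)
    rw [← classInner_comp_equiv eN]
    exact Iff.rfl
  rw [hR, card_over θN T' hT' hLT' hreal' hodd']
  set π := QuotientGroup.mk' (L.subgroupOf T) with hπdef
  have hπ : Function.Surjective π := QuotientGroup.mk'_surjective _
  by_cases hext : ∃ μ : T →* ℂ, (∀ t, μ t * μ t = 1) ∧ ∀ l : L, μ ⟨(l : G), hLT l.2⟩ = θ l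
  · obtain ⟨μ, hμ, hμl⟩ := hext
    obtain ⟨hcnt, -⟩ := ih T ((P.subtype hPT).mapSurjective hπ)
    obtain ⟨g, hg, hgx⟩ := exists_nhom π hπ (P.subtype hPT)
    have hNT : ∀ x : T', (⟨((x : Subgroup.normalizer ((P : Subgroup G) : Set G)) : G), (hmemT _).1 x.2⟩ : T) ∈
        Subgroup.normalizer (((P.subtype hPT : Sylow 2 T) : Subgroup T) : Set T) := fun x => by
      refine Subgroup.mem_normalizer_iff.2 fun y => ?_
      exact Subgroup.mem_normalizer_iff.1 (x : Subgroup.normalizer ((P : Subgroup G) : Set G)).2 (y : G)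
    let h : T' →* ↥(Subgroup.normalizer (((P.subtype hPT : Sylow 2 T) : Subgroup T) : Set T)) :=
      { toFun := fun x => ⟨⟨((x : Subgroup.normalizer ((P : Subgroup G) : Set G)) : G), (hmemT _).1 x.2⟩, hNT x⟩
        map_one' := rfl
        map_mul' := fun _ _ => rfl }
    have hh : Function.Surjective h := by
      rintro ⟨⟨x, hxT⟩, hx⟩
      have hxN : x ∈ Subgroup.normalizer ((P : Subgroup G) : Set G) := by
        have key : ∀ z : G, ∀ hz : z ∈ T, (⟨z, hz⟩ : T) ∈ Subgroup.normalizer (((P.subtype hPT : Sylow 2 T) : Subgroup T) : Set T) →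
            ∀ y ∈ (P : Subgroup G), z * y * z⁻¹ ∈ (P : Subgroup G) := fun z hz h y hy =>
          (Subgroup.mem_normalizer_iff.1 h (⟨y, hPT hy⟩ : T)).1 hy
        refine Subgroup.mem_normalizer_iff.2 fun y => ⟨key x hxT hx y, fun hy => ?_⟩
        have := key x⁻¹ (T.inv_mem hxT) (Subgroup.inv_mem _ hx) _ hy
        simpa [mul_assoc] using this
      exact ⟨⟨⟨x, hxN⟩, (hmemT _).2 hxT⟩, rfl⟩
    let j : T' →* T := (Subgroup.normalizer (((P.subtype hPT : Sylow 2 T) : Subgroup T) : Set T)).subtype.comp h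
    have hker : ∀ x : T', (g.comp h) x = 1 ↔ ((x : Subgroup.normalizer ((P : Subgroup G) : Set G)) : G) ∈ L := by
      intro x
      rw [MonoidHom.comp_apply, Subtype.ext_iff, hgx]
      exact QuotientGroup.eq_one_iff _
    have hA : Nat.card {ψ : RO T // ∀ l : L, (ψ.1 : T → ℂ) ⟨(l : G), hLT l.2⟩ = θ l * (ψ.1 : T → ℂ) 1} =
        Nat.card (RO (T ⧸ L.subgroupOf T)) := by
      rw [← card_ext π hπ μ hμ]
      refine Nat.card_congr (Equiv.subtypeEquivRight fun ψ => ⟨fun h a ha => ?_, fun h l => ?_⟩)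
      · have hl : (a : G) ∈ L := (QuotientGroup.eq_one_iff a).1 ha
        rw [show μ a = θ ⟨(a : G), hl⟩ from hμl ⟨(a : G), hl⟩]
        exact h ⟨(a : G), hl⟩
      · rw [← hμl]
        exact h _ ((QuotientGroup.eq_one_iff _).2 l.2)
    have hμN : ∀ (x : T') (hl : ((x : Subgroup.normalizer ((P : Subgroup G) : Set G)) : G) ∈ L),
        μ (j x) = θN ⟨(x : Subgroup.normalizer ((P : Subgroup G) : Set G)), hl⟩ := fun x hl => hμl ⟨_, hl⟩
    have hB : Nat.card {ψ : RO T' // ∀ m : L.subgroupOf (Subgroup.normalizer ((P : Subgroup G) : Set G)),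
          (ψ.1 : T' → ℂ) ⟨(m : Subgroup.normalizer ((P : Subgroup G) : Set G)), hLT' m.2⟩ = θN m * (ψ.1 : T' → ℂ) 1} =
        Nat.card (RO (Subgroup.normalizer ((((P.subtype hPT : Sylow 2 T) : Subgroup T).map π : Subgroup (T ⧸ L.subgroupOf T)) : Set (T ⧸ L.subgroupOf T)))) := by
      rw [← card_ext (g.comp h) (hg.comp hh) (μ.comp j) (fun t => hμ (j t))]
      refine Nat.card_congr (Equiv.subtypeEquivRight fun ψ => ⟨fun h' a ha => ?_, fun h' m => ?_⟩)
      · rw [MonoidHom.comp_apply, hμN a ((hker a).1 ha)]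
        exact h' ⟨(a : Subgroup.normalizer ((P : Subgroup G) : Set G)), (hker a).1 ha⟩
      · rw [← hμN ⟨(m : Subgroup.normalizer ((P : Subgroup G) : Set G)), hLT' m.2⟩ m.2]
        exact h' _ ((hker _).2 m.2)
    rw [hA, hB]
    exact hcnt
  · -- no real extension: both sides are empty
    have h0 : IsEmpty {ψ : RO T // ∀ l : L, (ψ.1 : T → ℂ) ⟨(l : G), hLT l.2⟩ = θ l * (ψ.1 : T → ℂ) 1} := by
      refine ⟨fun ψ => hext ?_⟩
      let eT : L.subgroupOf T ≃* L := Subgroup.subgroupOfEquivOfLe hLT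
      obtain ⟨μ, h1, h2⟩ := exists_real_ext ψ.1.1.2 ψ.1.2.1 ψ.1.2.2 (θ.comp eT.toMonoidHom)
        (fun l => hreal (eT l)) (fun l => ψ.2 (eT l))
      exact ⟨μ, h1, fun l => (h2 (eT.symm l)).trans (congrArg θ (eT.apply_symm_apply l))⟩
    have h0' : IsEmpty {ψ : RO T' // ∀ m : L.subgroupOf (Subgroup.normalizer ((P : Subgroup G) : Set G)),
          (ψ.1 : T' → ℂ) ⟨(m : Subgroup.normalizer ((P : Subgroup G) : Set G)), hLT' m.2⟩ = θN m * (ψ.1 : T' → ℂ) 1} := by
      refine ⟨fun ψ => ?_⟩
      let eT' : (L.subgroupOf (Subgroup.normalizer ((P : Subgroup G) : Set G))).subgroupOf T' ≃*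
          L.subgroupOf (Subgroup.normalizer ((P : Subgroup G) : Set G)) := Subgroup.subgroupOfEquivOfLe hLT'
      obtain ⟨μ', hμ'r, hμ'l⟩ := exists_real_ext ψ.1.1.2 ψ.1.2.1 ψ.1.2.2 (θN.comp eT'.toMonoidHom)
        (fun l => hreal' (eT' l)) (fun l => ψ.2 (eT' l))
      let i : ((P.subtype hPT : Sylow 2 T) : Subgroup T) →* T' :=
        { toFun := fun x => ⟨⟨((x : T) : G), Subgroup.le_normalizer x.2⟩, (hmemT _).2 (x : T).2⟩
          map_one' := rfl
          map_mul' := fun _ _ => rfl }
      set ν := μ'.comp i with hν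
      have hindc := isCharacter_indFun ((P.subtype hPT : Sylow 2 T) : Subgroup T) (isCharacter_of_irr (isIrr_hom ν))
      obtain ⟨β, hβ, hβr, hβd⟩ := exists_real_constituent hindc
        (isReal_indFun _ (map_inv_hom_real fun x => hμ'r (i x))) (by
          rw [charDegree_indFun _ (isCharacter_of_irr (isIrr_hom ν)),
            show charDegree (fun a : ((P.subtype hPT : Sylow 2 T) : Subgroup T) => ν a) = 1 by rw [charDegree, map_one ν]; simp, mul_one]
          exact Nat.odd_iff.2 (Nat.two_dvd_ne_zero.1 (P.subtype hPT).not_dvd_index))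
      rw [classInner_indFun _ _ (isClassFunction (isCharacter_of_irr β.2)), classInner_comm, ne_eq, map_eq_zero] at hβ
      let k : L →* ((P.subtype hPT : Sylow 2 T) : Subgroup T) :=
        { toFun := fun l => ⟨⟨(l : G), hLT l.2⟩, hLP l.2⟩
          map_one' := rfl
          map_mul' := fun _ _ => rfl }
      have h2 := inner_comp_ne k (CharBasics.isCharacter_restrict (isCharacter_of_irr β.2) _) ν hβ
      have hval : ∀ l : L, ν (k l) = θ l := fun l =>
        (hμ'l ⟨⟨⟨(l : G), hLN l.2⟩, hLT' l.2⟩, l.2⟩).trans rfl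
      simp only [hval] at h2
      exact h0.false ⟨⟨β, hβr, hβd⟩, (over_iff θ T rfl hLT β.2).1 h2⟩
    rw [Nat.card_of_isEmpty, Nat.card_of_isEmpty]

theorem step_two (P : Sylow 2 G) (L : Subgroup G) [L.Normal] (hab : IsMulCommutative L) (hLP : L ≤ (P : Subgroup G))
    (ihT : ∀ T : Subgroup G, Good (T ⧸ L.subgroupOf T)) (ih : Good (G ⧸ L)) :
    Nat.card (RO G) = Nat.card (RO (Subgroup.normalizer ((P : Subgroup G) : Set G))) ∧
      (AllReal G ↔ Elem (P : Subgroup G) ∧ Subgroup.normalizer ((P : Subgroup G) : Set G) = (P : Subgroup G)) := by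
  classical
  haveI : Fact (Nat.Prime 2) := ⟨Nat.prime_two⟩
  have hPN : (P : Subgroup G) ≤ Subgroup.normalizer ((P : Subgroup G) : Set G) := Subgroup.le_normalizer
  have hLN : L ≤ Subgroup.normalizer ((P : Subgroup G) : Set G) := hLP.trans hPN
  refine ⟨?_, fun hall => ?_, fun ⟨helem, hNP⟩ => ?_⟩
  · -- counting
    let R : Type u := {θ : L →* ℂ // (∀ l, θ l * θ l = 1) ∧
      ∀ x ∈ (P : Subgroup G), conjFun x (fun l => θ l) = fun l => θ l}
    let CX : RO G → R → Prop := fun χ θ => classInner (fun l : L => (χ.1 : G → ℂ) l) (fun l => θ.1 l) ≠ 0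
    let CY : RO (Subgroup.normalizer ((P : Subgroup G) : Set G)) → R → Prop := fun ψ θ =>
      classInner (fun l : L => (ψ.1 : Subgroup.normalizer ((P : Subgroup G) : Set G) → ℂ) ⟨(l : G), hLN l.2⟩)
        (fun l => θ.1 l) ≠ 0
    let E : R → R → Prop := fun θ θ' => ∃ n ∈ Subgroup.normalizer ((P : Subgroup G) : Set G),
      (fun l => θ'.1 l) = conjFun n (fun l => θ.1 l)
    haveI : Finite R := Subtype.finite
    refine card_eq_of_pairs CX CY E (fun χ => ?_) (fun χ θ hθ θ' => ?_) (fun ψ => ?_) (fun ψ θ hθ θ' => ?_)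
      fun θ => card_local P L hLP θ.1 θ.2.1 θ.2.2 ihT
    · obtain ⟨θ₀, h0, hfix⟩ := exists_fixed_constituent (L := L) P.2 (isCharacter_of_irr χ.1.2) χ.2.2
      obtain ⟨μ, hμ⟩ := exists_hom_of_irr hab θ₀.2
      obtain ⟨θ₁, h1, hr, -⟩ := exists_real_constituent (CharBasics.isCharacter_restrict (isCharacter_of_irr χ.1.2) L)
        (fun l => χ.2.1 l) (by simpa [charDegree] using χ.2.2)
      obtain ⟨g, hg⟩ := constituent_conj χ.1.2 θ₁.2 θ₀.2 h1 h0
      refine ⟨⟨μ, (hom_real_iff μ).1 ?_, fun x hx => ?_⟩, ?_⟩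
      · rw [hμ, hg]; exact fun l => hr _
      · rw [hμ]; exact hfix x hx
      · show classInner _ (fun l => μ l) ≠ 0
        rw [hμ]; exact h0
    · constructor
      · intro h'
        obtain ⟨g, hg⟩ := constituent_conj χ.1.2 (isIrr_hom θ.1) (isIrr_hom θ'.1) hθ h'
        exact exists_normalizer_conj P θ.2.2 θ'.2.2 hg
      · rintro ⟨n, -, hn⟩
        show classInner _ (fun l => θ'.1 l) ≠ 0
        rw [hn, ← conjFun_restrict (isClassFunction (isCharacter_of_irr χ.1.2)) n, classInner_conjFun]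
        exact hθ
    · let e : L.subgroupOf (Subgroup.normalizer ((P : Subgroup G) : Set G)) ≃* L := Subgroup.subgroupOfEquivOfLe hLN
      have hP' : IsPGroup 2 ((P : Subgroup G).subgroupOf (Subgroup.normalizer ((P : Subgroup G) : Set G))) :=
        P.2.of_equiv (Subgroup.subgroupOfEquivOfLe hPN).symm
      obtain ⟨θ₀, h0, hfix⟩ := exists_fixed_constituent
        (L := L.subgroupOf (Subgroup.normalizer ((P : Subgroup G) : Set G))) hP' (isCharacter_of_irr ψ.1.2) ψ.2.2
      obtain ⟨θ₁, h1, hr, -⟩ := exists_real_constituent (CharBasics.isCharacter_restrict (isCharacter_of_irr ψ.1.2)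
        (L.subgroupOf (Subgroup.normalizer ((P : Subgroup G) : Set G)))) (fun l => ψ.2.1 l)
        (by simpa [charDegree] using ψ.2.2)
      obtain ⟨g, hg⟩ := constituent_conj ψ.1.2 θ₁.2 θ₀.2 h1 h0
      obtain ⟨μ, hμ⟩ := exists_hom_of_irr hab (isIrrCharacter_comp θ₀.2 e.symm.toMonoidHom e.symm.surjective)
      have hμ0 : (fun m => μ (e m)) = (θ₀ : L.subgroupOf (Subgroup.normalizer ((P : Subgroup G) : Set G)) → ℂ) := by
        funext m
        rw [congrFun hμ (e m)]
        exact congrArg _ (e.symm_apply_apply m)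
      refine ⟨⟨μ, (hom_real_iff μ).1 ?_, fun x hx => ?_⟩, ?_⟩
      · rw [hμ, hg]; exact fun l => hr _
      · funext l
        have h2 := congrFun (hfix ⟨x, hPN hx⟩ hx) (e.symm l)
        rw [← hμ0] at h2
        simp only [conjFun_apply] at h2 ⊢
        rw [e.apply_symm_apply] at h2
        exact h2
      · show classInner _ (fun l => μ l) ≠ 0
        rw [← classInner_comp_equiv e, hμ0]
        exact h0
    · let e : L.subgroupOf (Subgroup.normalizer ((P : Subgroup G) : Set G)) ≃* L := Subgroup.subgroupOfEquivOfLe hLN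
      have key : ∀ θ : R, CY ψ θ ↔ classInner (fun m : L.subgroupOf (Subgroup.normalizer ((P : Subgroup G) : Set G)) =>
          (ψ.1 : Subgroup.normalizer ((P : Subgroup G) : Set G) → ℂ) m) (fun m => θ.1 (e m)) ≠ 0 := fun θ => by
        show classInner _ _ ≠ 0 ↔ _
        rw [← classInner_comp_equiv e]
        exact Iff.rfl
      have hθ2 := (key θ).1 hθ
      rw [key]
      constructor
      · intro h'
        obtain ⟨g, hg⟩ := constituent_conj ψ.1.2 (isIrr_hom (θ.1.comp e.toMonoidHom))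
          (isIrr_hom (θ'.1.comp e.toMonoidHom)) hθ2 h'
        refine ⟨g, g.2, funext fun l => ?_⟩
        exact ((congrArg θ'.1 (e.apply_symm_apply l)).symm).trans (congrFun hg (e.symm l))
      · rintro ⟨n, hn, heq⟩
        rw [show (fun m => θ'.1 (e m)) = conjFun (⟨n, hn⟩ : Subgroup.normalizer ((P : Subgroup G) : Set G))
            (fun m => θ.1 (e m)) from funext fun m => congrFun heq (e m),
          ← conjFun_restrict (isClassFunction (isCharacter_of_irr ψ.1.2))
            (⟨n, hn⟩ : Subgroup.normalizer ((P : Subgroup G) : Set G)), classInner_conjFun]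
        exact hθ2
  · -- all real gives the structure
    have hπ := QuotientGroup.mk'_surjective L
    obtain ⟨helemQ, hNQ⟩ := (ih (P.mapSurjective hπ)).2.1 (allReal_of_surjective _ hπ hall)
    obtain ⟨g, hg, hgx⟩ := exists_nhom (QuotientGroup.mk' L) hπ P
    have hNP : Subgroup.normalizer ((P : Subgroup G) : Set G) = (P : Subgroup G) := by
      refine le_antisymm (fun x hx => ?_) hPN
      have h1 : QuotientGroup.mk' L x ∈ (P : Subgroup G).map (QuotientGroup.mk' L) := by
        rw [← hgx ⟨x, hx⟩]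
        exact hNQ.le (g ⟨x, hx⟩).2
      obtain ⟨q, hq, hqx⟩ := h1
      have := (P : Subgroup G).mul_mem hq (hLP (QuotientGroup.eq.1 hqx))
      rwa [mul_inv_cancel_left] at this
    refine ⟨fun ν => ?_, hNP⟩
    have hindc := isCharacter_indFun (P : Subgroup G) (isCharacter_of_irr (isIrr_hom ν))
    obtain ⟨β, hβ, hβd⟩ := exists_odd_constituent hindc (by
      rw [charDegree_indFun _ (isCharacter_of_irr (isIrr_hom ν)),
        show charDegree (fun a : (P : Subgroup G) => ν a) = 1 by simp [charDegree], mul_one]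
      exact index_inertia_odd le_rfl)
    rw [classInner_indFun _ _ (isClassFunction (isCharacter_of_irr β.2)), classInner_comm, ne_eq, map_eq_zero] at hβ
    have hβr := hall β hβd
    have h2 := inner_comp_ne (Subgroup.inclusion hLP) (CharBasics.isCharacter_restrict (isCharacter_of_irr β.2) _) ν hβ
    set θ := ν.comp (Subgroup.inclusion hLP) with hθ
    have h2' : classInner (fun l : L => (β : G → ℂ) l) (fun l => θ l) ≠ 0 := h2
    have hfix : ∀ x ∈ (P : Subgroup G), conjFun x (fun l => θ l) = fun l => θ l := by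
      intro x hx
      funext l
      show ν (Subgroup.inclusion hLP ⟨x * l * x⁻¹, _⟩) = ν (Subgroup.inclusion hLP l)
      rw [show Subgroup.inclusion hLP ⟨x * l * x⁻¹, (inferInstance : L.Normal).conj_mem (l : G) l.2 x⟩ =
        (⟨x, hx⟩ : (P : Subgroup G)) * Subgroup.inclusion hLP l * (⟨x, hx⟩ : (P : Subgroup G))⁻¹ from rfl,
        map_mul, map_mul, mul_comm (ν ⟨x, hx⟩), mul_assoc, ← map_mul, mul_inv_cancel, map_one, mul_one]
    have hθr : ∀ l, θ l * θ l = 1 := by
      refine (hom_real_iff θ).1 (isReal_iff.2 ?_)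
      have h3 : classInner (fun l : L => (β : G → ℂ) l) (fun l => conj (θ l)) ≠ 0 := by
        rw [show (fun l : L => (β : G → ℂ) l) = fun l : L => conj ((β : G → ℂ) l) from
          funext fun l => (Complex.conj_eq_iff_im.2 (hβr _)).symm, classInner_star]
        exact (map_ne_zero _).2 h2'
      obtain ⟨y, hy⟩ := constituent_conj β.2 (isIrr_hom θ) (BrauerInd.isIrr_star (isIrr_hom θ)) h2' h3
      obtain ⟨n, hn, hn'⟩ := exists_normalizer_conj P hfix (fun x hx => funext fun l => by
        rw [conjFun_apply]; exact congrArg conj (congrFun (hfix x hx) l)) hy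
      rw [hn']
      exact hfix n (hNP.le hn)
    have hPT : (P : Subgroup G) ≤ inertia (fun l => θ l) := fun x hx => hfix x hx
    obtain ⟨ψ, hψ, hind, hdeg, hres⟩ := exists_correspondent θ (inertia fun l => θ l) rfl (hLP.trans hPT) β.2 h2'
    have hψr := correspondent_real θ (inertia fun l => θ l) rfl (hLP.trans hPT) hθr hψ hres (hind ▸ hβr)
    rw [hdeg, Nat.odd_mul] at hβd
    let eT : L.subgroupOf (inertia fun l => θ l) ≃* L := Subgroup.subgroupOfEquivOfLe (hLP.trans hPT)
    obtain ⟨μ, hμ, hμl⟩ := exists_real_ext hψ hψr hβd.2 (θ.comp eT.toMonoidHom) (fun l => hθr (eT l))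
      (fun l => hres (eT l))
    have hσ := (QuotientGroup.mk' L).subgroupMap_surjective (P : Subgroup G)
    obtain ⟨ω, hω⟩ := hom_descend _ hσ (ν * μ.comp (Subgroup.inclusion hPT)) fun a ha => by
      have hl : (a : G) ∈ L := (QuotientGroup.eq_one_iff _).1 (congrArg Subtype.val ha)
      show ν a * μ (Subgroup.inclusion hPT a) = 1
      rw [show μ (Subgroup.inclusion hPT a) = ν a from hμl ⟨Subgroup.inclusion hPT a, hl⟩]
      exact hθr ⟨(a : G), hl⟩
    intro x
    have h4 := helemQ ω ((QuotientGroup.mk' L).subgroupMap (P : Subgroup G) x)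
    have h5 := hω x
    simp only [MonoidHom.mul_apply, MonoidHom.comp_apply] at h5
    erw [h5] at h4
    linear_combination h4 - ν x * ν x * hμ (Subgroup.inclusion hPT x)
  · -- the structure gives all real
    intro χ hd
    obtain ⟨θ₀, h0, hfix⟩ := exists_fixed_constituent (L := L) P.2 (isCharacter_of_irr χ.2) hd
    obtain ⟨θ, hθ⟩ := exists_hom_of_irr hab θ₀.2
    rw [← hθ] at h0 hfix
    have hPT : (P : Subgroup G) ≤ inertia (fun l => θ l) := fun x hx => hfix x hx
    have hLT : L ≤ inertia (fun l => θ l) := hLP.trans hPT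
    obtain ⟨ψ, hψ, hind, hdeg, hres⟩ := exists_correspondent θ (inertia fun l => θ l) rfl hLT χ.2 h0
    rw [hdeg, Nat.odd_mul] at hd
    let eT : L.subgroupOf (inertia fun l => θ l) ≃* L := Subgroup.subgroupOfEquivOfLe hLT
    obtain ⟨δ, hδ, -⟩ := exists_det_hom hψ (θ.comp eT.toMonoidHom) (fun l => hres (eT l))
    have hδP : ∀ x : (P : Subgroup G), δ (Subgroup.inclusion hPT x) * δ (Subgroup.inclusion hPT x) = 1 :=
      helem (δ.comp (Subgroup.inclusion hPT))
    have hδl : ∀ l : L, δ ⟨(l : G), hLT l.2⟩ = θ l ^ charDegree ψ := fun l =>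
      (hδ (eT.symm l)).trans (by rw [MonoidHom.comp_apply]; exact congrArg (fun z => θ z ^ charDegree ψ) (eT.apply_symm_apply l))
    obtain ⟨k, hk⟩ := IsPGroup.iff_card.1 ((P.2.to_le hLP) : IsPGroup 2 L)
    have hθr : ∀ l, θ l * θ l = 1 := by
      intro l
      refine eq_one_of_pows (z := θ l * θ l) ((Nat.coprime_two_left.2 hd.2).pow_left k) ?_ ?_
      · rw [← hk, ← map_mul, ← map_pow, pow_card_eq_one', map_one]
      · rw [mul_pow, ← hδl]
        exact hδP ⟨(l : G), hLP l.2⟩
    obtain ⟨PT, hPTdef⟩ : ∃ Q : Sylow 2 (inertia fun l => θ l), Q = P.subtype hPT := ⟨_, rfl⟩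
    set m := (PT : Subgroup (inertia fun l => θ l)).index with hm
    have hmodd : Odd m := Nat.odd_iff.2 (Nat.two_dvd_ne_zero.1 PT.not_dvd_index)
    have hsq : ∀ t, (δ t * δ t) ^ m = 1 := by
      intro t
      set K := (δ * δ).toHomUnits.ker with hK
      have hle : (PT : Subgroup (inertia fun l => θ l)) ≤ K := by
        intro x hx
        rw [hPTdef] at hx
        rw [hK, MonoidHom.mem_ker, Units.ext_iff]
        exact hδP ⟨((x : inertia fun l => θ l) : G), hx⟩
      obtain ⟨c, hc⟩ := Subgroup.index_dvd_of_le hle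
      have h1 : t ^ m ∈ K := by
        rw [hm, hc, pow_mul]
        exact Subgroup.pow_mem _ (Subgroup.pow_index_mem K t) c
      rw [hK, MonoidHom.mem_ker, Units.ext_iff, MonoidHom.coe_toHomUnits, MonoidHom.mul_apply, map_pow, ← mul_pow] at h1
      exact h1
    let μ : (inertia fun l => θ l) →* ℂ := (powMonoidHom m).comp δ
    have hμ : ∀ t, μ t * μ t = 1 := fun t => by
      show δ t ^ m * δ t ^ m = 1
      rw [← mul_pow]; exact hsq t
    have hμl : ∀ l : L, μ ⟨(l : G), hLT l.2⟩ = θ l := fun l => by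
      show δ ⟨(l : G), hLT l.2⟩ ^ m = θ l
      rw [hδl, ← pow_mul]
      obtain ⟨q, hq⟩ := hd.2.mul hmodd
      rw [hq, pow_succ, pow_mul, pow_two, hθr, one_pow, one_mul]
    have hπ := QuotientGroup.mk'_surjective (L.subgroupOf (inertia fun l => θ l))
    obtain ⟨g, hg, hgx⟩ := exists_nhom (QuotientGroup.mk' (L.subgroupOf (inertia fun l => θ l))) hπ PT
    have hQ : AllReal ((inertia fun l => θ l) ⧸ L.subgroupOf (inertia fun l => θ l)) := by
      refine (ihT (inertia fun l => θ l) (PT.mapSurjective hπ)).2.2 ⟨?_, le_antisymm (fun y hy => ?_) Subgroup.le_normalizer⟩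
      · refine elem_of_surjective _ ((QuotientGroup.mk' _).subgroupMap_surjective (PT : Subgroup (inertia fun l => θ l))) ?_
        rw [hPTdef]
        exact elem_of_surjective (Subgroup.subgroupOfEquivOfLe hPT).symm.toMonoidHom
          (Subgroup.subgroupOfEquivOfLe hPT).symm.surjective helem
      · obtain ⟨⟨⟨x, hxT⟩, hx⟩, hxy⟩ := hg ⟨y, hy⟩
        have hxN : x ∈ Subgroup.normalizer ((P : Subgroup G) : Set G) := by
          rw [hPTdef] at hx
          refine Subgroup.mem_normalizer_iff.2 fun z => ⟨fun hz => ?_, fun hz => ?_⟩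
          · exact (Subgroup.mem_normalizer_iff.1 hx ⟨z, hPT hz⟩).1 hz
          · have hzT : z ∈ inertia fun l => θ l := by
              have := (inertia fun l => θ l).mul_mem ((inertia fun l => θ l).mul_mem ((inertia fun l => θ l).inv_mem hxT) (hPT hz)) hxT
              simpa [mul_assoc] using this
            exact (Subgroup.mem_normalizer_iff.1 hx ⟨z, hzT⟩).2 hz
        have hy' : QuotientGroup.mk' _ (⟨x, hxT⟩ : inertia fun l => θ l) = y := (hgx _).symm.trans (congrArg Subtype.val hxy)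
        exact ⟨⟨x, hxT⟩, hPTdef ▸ (hNP.le hxN), hy'⟩
    have hψr : IsReal ψ := real_of_allReal (QuotientGroup.mk' _) hπ μ hμ hQ hψ hd.2 fun a ha => by
      rw [show μ a = θ ⟨(a : G), (QuotientGroup.eq_one_iff a).1 ha⟩ from hμl ⟨_, (QuotientGroup.eq_one_iff a).1 ha⟩]
      exact hres ⟨(a : G), (QuotientGroup.eq_one_iff a).1 ha⟩
    rw [← hind]
    exact isReal_indFun _ hψr

theorem good_all : ∀ (n : ℕ) (G : Type u) [Group G] [Fintype G] [Group.IsSolvable G], Nat.card G = n → Good G := by
  intro n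
  induction n using Nat.strong_induction_on with
  | _ n ih =>
  intro G _ _ _ hn P
  subst hn
  classical
  haveI : Fact (Nat.Prime 2) := ⟨Nat.prime_two⟩
  rcases subsingleton_or_nontrivial G with hs | hnt
  · have hNP : Subgroup.normalizer ((P : Subgroup G) : Set G) = (P : Subgroup G) := Subsingleton.elim _ _
    have hsurj : Function.Surjective (Subgroup.normalizer ((P : Subgroup G) : Set G)).subtype :=
      fun x => ⟨⟨x, Subsingleton.elim (1 : G) x ▸ Subgroup.one_mem _⟩, rfl⟩
    refine ⟨(card_RO_eq_of_odd_ker _ hsurj ?_).symm,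
      fun _ => ⟨fun ν x => ?_, hNP⟩, fun _ χ _ a => ?_⟩
    · rw [Subgroup.ker_subtype, Subgroup.card_bot]; exact odd_one
    · rw [Subsingleton.elim x 1, map_one, one_mul]
    · rw [Subsingleton.elim a 1, apply_one (isCharacter_of_irr χ.2)]; simp
  obtain ⟨L, p, hp, hLn, hLb, hLp, hab⟩ :=
    Cfsg.Agent.S4261.exists_minimal_normal_pGroup (inferInstance : Group.IsSolvable G)
  haveI := hLn
  have habL : IsMulCommutative L := ⟨⟨fun a b => Subtype.ext (hab a a.2 b b.2)⟩⟩
  have hpos : 1 < Nat.card L := (Subgroup.one_lt_card_iff_ne_bot L).2 hLb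
  have hquot : Good (G ⧸ L) := by
    refine ih _ ?_ (G ⧸ L) rfl
    rw [Subgroup.card_eq_card_quotient_mul_card_subgroup L]
    exact lt_mul_of_one_lt_right Nat.card_pos hpos
  obtain ⟨k, hk⟩ := (@IsPGroup.iff_card p L _ ⟨hp⟩ _).1 hLp
  by_cases h2 : p = 2
  · subst h2
    have hLP : L ≤ (P : Subgroup G) := by
      have h := P.is_maximal' (Q := (P : Subgroup G) ⊔ L) (P.2.to_sup_of_normal_right hLp) le_sup_left
      exact h ▸ le_sup_right
    refine step_two P L habL hLP (fun T => ?_) hquot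
    by_cases hLT : L ≤ T
    · refine ih _ ?_ _ rfl
      have h1 := Subgroup.card_eq_card_quotient_mul_card_subgroup (L.subgroupOf T)
      rw [Nat.card_congr (Subgroup.subgroupOfEquivOfLe hLT).toEquiv] at h1
      have h3 := Subgroup.card_le_of_le (le_top : T ≤ ⊤)
      rw [Subgroup.card_top, h1] at h3
      exact (lt_mul_of_one_lt_right Nat.card_pos hpos).trans_le h3
    · refine ih _ ?_ _ rfl
      have h3 : Nat.card T < Nat.card G := by
        refine lt_of_le_of_ne T.card_le_card_group fun h => hLT ?_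
        rw [Subgroup.eq_top_of_card_eq T h]; exact le_top
      exact lt_of_le_of_lt (Nat.le_of_dvd Nat.card_pos (Subgroup.card_quotient_dvd_card _)) h3
  · refine step_odd L habL ?_ hquot P
    rw [hk]
    exact (hp.odd_of_ne_two h2).pow

end CfsgLib.RealOdd
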